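import Cfsg.Agent.Lib.Known.SLBounded.Pres
import Cfsg.Agent.Lib.Known.SL2Bounded.Main
import Cfsg.Agent.Lib.Known.SL3Bounded.Main
import Cfsg.Agent.Lib.Classical.SLExplicitGenerators

/-!
# Presentations of `SL n` and `PSL n` of bounded length
-/

set_option autoImplicit false

namespace CfsgLib.Known.SLBounded

variable {F : Type*} [Field F]

theorem isCyclic_center [Finite F] (n : ℕ) :
    IsCyclic (Subgroup.center (Matrix.SpecialLinearGroup (Fin n) F)) :=
  isCyclic_of_injective (Matrix.SpecialLinearGroup.center_equiv_rootsOfUnity (n := Fin n) (R := F)).toMonoidHom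
    (MulEquiv.injective _)

/-- two generators of `SL` in degree at least two -/
theorem exists_pair [Finite F] (n : ℕ) (hn : 1 ≤ n) :
    ∃ a b : Matrix.SpecialLinearGroup (Fin (n + 1)) F,
      Subgroup.closure ({a, b} : Set (Matrix.SpecialLinearGroup (Fin (n + 1)) F)) = ⊤ := by
  haveI : Fintype F := Fintype.ofFinite F
  obtain ⟨k, hk⟩ := IsCyclic.exists_generator (α := Fˣ)
  let d : Fin (n + 1) → F := fun i => if i.val = n then (-1) ^ n else 1
  have hprod : ∏ i, d i = (-1) ^ n := by
    rw [Finset.prod_eq_single (⟨n, by omega⟩ : Fin (n + 1))]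
    · simp [d]
    · intro b _ hb
      simp only [d]
      rw [if_neg (fun e => hb (Fin.ext e))]
    · simp
  let M : Matrix (Fin (n + 1)) (Fin (n + 1)) F := Matrix.diagonal d * (finRotate (n + 1)).permMatrix F
  have hdet : M.det = 1 := by
    simp only [M, Matrix.det_mul, Matrix.det_diagonal, hprod, Matrix.det_permutation, sign_finRotate]
    push_cast
    simp [← mul_pow]
  have hM : M = Matrix.of (fun i j : Fin (n + 1) =>
      if j.val = i.val + 1 then (1 : F) else if i.val = n ∧ j.val = 0 then (-1) ^ n else 0) := by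
    ext i j
    simp only [M, Matrix.diagonal_mul, Matrix.of_apply, Equiv.Perm.permMatrix, PEquiv.toMatrix_apply,
      Equiv.toPEquiv_apply, Option.mem_def, Option.some.injEq, finRotate_succ_apply, d, Fin.ext_iff, Fin.val_add_one,
      Fin.val_last]
    have := i.2
    have := j.2
    by_cases hin : i.val = n
    · simp only [hin, if_true, true_and]
      by_cases hj : j.val = 0
      · rw [if_pos hj.symm, if_neg (by omega), if_pos hj, mul_one]
      · rw [if_neg (fun e => hj e.symm), if_neg (by omega), if_neg hj, mul_zero]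
    · simp only [hin, if_false, false_and, one_mul]
      by_cases hj : j.val = i.val + 1
      · rw [if_pos hj.symm, if_pos hj]
      · rw [if_neg (fun e => hj e.symm), if_neg hj]
  let w : Matrix.SpecialLinearGroup (Fin (n + 1)) F := ⟨M, hdet⟩
  have h01 : (0 : Fin (n + 1)) ≠ 1 := by
    intro e
    have := congrArg Fin.val e
    rw [Fin.val_zero, Fin.val_one', Nat.one_mod_eq_one.2 (by omega)] at this
    omega
  let x : Matrix.SpecialLinearGroup (Fin (n + 1)) F := Matrix.SpecialLinearGroup.transvection h01 1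
  by_cases hK : 3 < Fintype.card F
  · let dh : Fin (n + 1) → F := fun i => if i.val = 0 then (k : F) else if i.val = 1 then ((k⁻¹ : Fˣ) : F) else 1
    have hh : (Matrix.diagonal dh).det = 1 := by
      rw [Matrix.det_diagonal, Finset.prod_eq_mul (0 : Fin (n + 1)) 1 h01]
      · simp [dh, Fin.val_one', Nat.one_mod_eq_one.2 (show n + 1 ≠ 1 by omega), show n ≠ 0 by omega]
      · intro c _ hc
        have h0 : c.val ≠ 0 := fun e => hc.1 (Fin.ext e)
        have h1 : c.val ≠ 1 := fun e => hc.2 (Fin.ext (by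
          rw [Fin.val_one', Nat.one_mod_eq_one.2 (show n + 1 ≠ 1 by omega)]; exact e))
        simp only [dh, if_neg h0, if_neg h1]
      · simp
      · simp
    exact ⟨⟨_, hh⟩, x * w, CfsgLib.Classical.explicit_generators hK hn k hk ⟨_, hh⟩ x w rfl rfl hM⟩
  · exact ⟨x, w, CfsgLib.Classical.explicit_generators_small (by omega) hn x w rfl hM⟩

/-- `PSL` has a presentation with few relations on some finite set of generators -/
theorem psl_few_rels [Finite F] (n : ℕ) (hn : 2 ≤ n) :
    ∃ (α : Type) (_ : Fintype α) (rels : Finset (FreeGroup α)), rels.card ≤ 60 ∧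
      Nonempty (PresentedGroup (↑rels : Set (FreeGroup α)) ≃* Matrix.ProjectiveSpecialLinearGroup (Fin n) F) := by
  classical
  obtain ⟨p, hp⟩ := CharP.exists F
  haveI : Fact p.Prime := ⟨CharP.char_is_prime F p⟩
  letI := ZMod.algebra F p
  by_cases h2 : n = 2
  · subst h2
    obtain ⟨L, L', -, h9, -, -, e⟩ := CfsgLib.Known.SL2Bounded.presentations F p
    exact ⟨Fin 3, inferInstance, L'.toFinset, (List.toFinset_card_le L').trans (h9.trans (by norm_num)),
      by rw [List.coe_toFinset]; exact e⟩
  obtain ⟨L3, h14, e3'⟩ := CfsgLib.Known.SL3Bounded.presentation F p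
  have h14' : L3.toFinset.card ≤ 14 := (List.toFinset_card_le L3).trans h14
  rw [← List.coe_toFinset] at e3'
  obtain ⟨e3⟩ := e3'
  by_cases h3 : n = 3
  · subst h3
    obtain ⟨R, hc, e⟩ := quot_pres _ e3 _ (isCyclic_center 3)
    exact ⟨Fin 4, inferInstance, R, by omega, e⟩
  obtain ⟨RA, hA, ⟨eA⟩⟩ := (CfsgLib.Perm.AltBounded.sym_alt_two_gen n).2
  obtain ⟨R, hR, ⟨e⟩⟩ := exists_pres (F := F) (show 4 ≤ n by omega) _ e3 RA eA
  obtain ⟨R', hc, e'⟩ := quot_pres R e _ (isCyclic_center n)
  exact ⟨Fin 4 ⊕ Fin 2, inferInstance, R', by omega, e'⟩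

/-- two generators suffice -/
theorem psl_two_gen [Finite F] (n : ℕ) (hn : 2 ≤ n) :
    ∃ rels : Finset (FreeGroup (Fin 2)), rels.card ≤ 80 ∧
      Nonempty (PresentedGroup (↑rels : Set (FreeGroup (Fin 2))) ≃* Matrix.ProjectiveSpecialLinearGroup (Fin n) F) := by
  obtain ⟨α, _, R, hR, ⟨e⟩⟩ := psl_few_rels (F := F) n hn
  obtain ⟨m, rfl⟩ : ∃ m, n = m + 1 := ⟨n - 1, by omega⟩
  obtain ⟨a, b, hab⟩ := exists_pair (F := F) m (by omega)
  obtain ⟨R', hR', e', -⟩ := CfsgLib.Perm.AltBounded.Tietze.to_pair R e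
    (a := QuotientGroup.mk' _ a) (b := QuotientGroup.mk' _ b) (by
      have h := congrArg (Subgroup.map (QuotientGroup.mk' (Subgroup.center
        (Matrix.SpecialLinearGroup (Fin (m + 1)) F)))) hab
      rw [MonoidHom.map_closure, Set.image_pair, Subgroup.map_top_of_surjective _ (QuotientGroup.mk'_surjective _)] at h
      exact h)
  exact ⟨R', by omega, ⟨e'⟩⟩

end CfsgLib.Known.SLBounded
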