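import Cfsg.Agent.Lib.Known.SLBounded.Tight
import Cfsg.Agent.S3377

/-!
# Presentations of `SL n` on six or seven generators
-/

set_option autoImplicit false

namespace CfsgLib.Known.SLBounded

variable {F : Type*} [Field F]

/-- one redundant generator costs one relation -/
theorem pad_gen {α : Type*} [DecidableEq α] (rels : Finset (FreeGroup α)) {H : Type*} [Group H]
    (e : PresentedGroup (↑rels : Set (FreeGroup α)) ≃* H) :
    ∃ rels' : Finset (FreeGroup (Option α)), rels'.card ≤ rels.card + 1 ∧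
      Nonempty (PresentedGroup (↑rels' : Set (FreeGroup (Option α))) ≃* H) := by
  classical
  let g : Option α → H := fun o => o.elim 1 fun i => e (PresentedGroup.of i)
  let R : Finset (FreeGroup (Option α)) := insert (FreeGroup.of none) (rels.image (FreeGroup.map some))
  have hcomp : (FreeGroup.lift g).comp (FreeGroup.map some) =
      e.toMonoidHom.comp (PresentedGroup.mk (↑rels : Set (FreeGroup α))) :=
    FreeGroup.ext_hom _ _ fun i => by simp [g, PresentedGroup.of]
  have hR : ∀ w ∈ (↑R : Set (FreeGroup (Option α))), FreeGroup.lift g w = 1 := by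
    intro w hw
    rcases Finset.mem_insert.1 (Finset.mem_coe.1 hw) with h | h
    · subst h; simp [g]
    · obtain ⟨r, hr, rfl⟩ := Finset.mem_image.1 h
      rw [← MonoidHom.comp_apply, hcomp, MonoidHom.comp_apply, PresentedGroup.one_of_mem (Finset.mem_coe.2 hr),
        map_one]
  let mk := PresentedGroup.mk (↑R : Set (FreeGroup (Option α)))
  have hcomp' : FreeGroup.lift (fun i => mk (FreeGroup.of (some i))) = mk.comp (FreeGroup.map some) :=
    FreeGroup.ext_hom _ _ fun i => by simp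
  have hψ : ∀ w ∈ (↑rels : Set (FreeGroup α)), FreeGroup.lift (fun i => mk (FreeGroup.of (some i))) w = 1 := by
    intro w hw
    rw [hcomp', MonoidHom.comp_apply]
    exact PresentedGroup.one_of_mem (Finset.mem_coe.2 (Finset.mem_insert_of_mem (Finset.mem_image_of_mem _ hw)))
  let Φ : H →* PresentedGroup (↑R : Set (FreeGroup (Option α))) :=
    (PresentedGroup.toGroup hψ).comp e.symm.toMonoidHom
  have hΦ : ∀ w, Φ (e (PresentedGroup.mk _ w)) = mk (FreeGroup.map some w) := fun w => by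
    show PresentedGroup.toGroup hψ (e.symm (e (PresentedGroup.mk _ w))) = _
    rw [MulEquiv.symm_apply_apply]
    exact DFunLike.congr_fun hcomp' w
  obtain ⟨e', -⟩ := CfsgLib.Perm.AltBounded.Tietze.iso_of_back _ g hR Φ (fun h => by
    obtain ⟨w, rfl⟩ := (e.surjective.comp (PresentedGroup.mk_surjective (↑rels : Set (FreeGroup α)))) h
    show PresentedGroup.toGroup hR (Φ (e (PresentedGroup.mk _ w))) = _
    rw [hΦ]
    exact DFunLike.congr_fun hcomp w) (fun j => by
    cases j with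
    | none => exact ⟨1, (map_one Φ).trans (PresentedGroup.one_of_mem
        (Finset.mem_coe.2 (Finset.mem_insert_self _ _))).symm⟩
    | some i => exact ⟨e (PresentedGroup.of i), (hΦ (FreeGroup.of i)).trans (by rw [FreeGroup.map.of]; rfl)⟩)
  exact ⟨R, (Finset.card_insert_le _ _).trans (Nat.succ_le_succ Finset.card_image_le), ⟨e'⟩⟩

/-- `SL n` on six generators -/
theorem sl_six [Finite F] {n : ℕ} (hn : 4 ≤ n) :
    ∃ rels : Finset (FreeGroup (Fin 6)), rels.card ≤ (if n = 4 then 21 else if n = 5 then 22 else 24) ∧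
      Nonempty (PresentedGroup (↑rels : Set (FreeGroup (Fin 6))) ≃* Matrix.SpecialLinearGroup (Fin n) F) := by
  classical
  obtain ⟨p, hp⟩ := CharP.exists F
  haveI : Fact p.Prime := ⟨CharP.char_is_prime F p⟩
  letI := ZMod.algebra F p
  obtain ⟨L3, h13, e3'⟩ := CfsgLib.Known.SL3Bounded.presentation_thirteen F p
  have h13' : L3.toFinset.card ≤ 13 := (List.toFinset_card_le L3).trans h13
  rw [← List.coe_toFinset] at e3'
  obtain ⟨e3⟩ := e3'
  obtain ⟨rels, hc, ⟨e⟩⟩ : ∃ rels : Finset (FreeGroup (Fin 4 ⊕ Fin 2)),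
      rels.card ≤ (if n = 4 then 21 else if n = 5 then 22 else 24) ∧
      Nonempty (PresentedGroup (↑rels : Set (FreeGroup (Fin 4 ⊕ Fin 2))) ≃* Matrix.SpecialLinearGroup (Fin n) F) := by
    by_cases h4 : n = 4
    · subst h4
      obtain ⟨RA, hA, ⟨eA⟩⟩ := CfsgLib.Perm.AltBounded.AltSmall.alt_four
      obtain ⟨R, hR, e⟩ := exists_pres_four (F := F) _ e3 RA eA
      exact ⟨R, by rw [if_pos rfl]; omega, e⟩
    by_cases h5 : n = 5
    · subst h5
      obtain ⟨eA⟩ := Cfsg.Agent.S3377.result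
      let RA : Finset (FreeGroup (Fin 2)) := {FreeGroup.of (0 : Fin 2) ^ 3, FreeGroup.of (1 : Fin 2) ^ 5,
        (FreeGroup.of (0 : Fin 2) * FreeGroup.of 1) ^ 2}
      obtain ⟨eA'⟩ : Nonempty (PresentedGroup (↑RA : Set (FreeGroup (Fin 2))) ≃* alternatingGroup (Fin 5)) := by
        rw [show (↑RA : Set (FreeGroup (Fin 2))) = {FreeGroup.of (0 : Fin 2) ^ 3, FreeGroup.of (1 : Fin 2) ^ 5,
          (FreeGroup.of (0 : Fin 2) * FreeGroup.of 1) ^ 2} by simp [RA]]
        exact ⟨eA⟩
      have hA : RA.card ≤ 3 := Finset.card_le_three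
      obtain ⟨R, hR, e⟩ := exists_pres_five (F := F) le_rfl _ e3 RA eA'
      exact ⟨R, by rw [if_neg h4, if_pos rfl]; omega, e⟩
    · obtain ⟨RA, hA, ⟨eA⟩⟩ := (CfsgLib.Perm.AltBounded.sym_alt_two_gen n).2
      obtain ⟨R, hR, e⟩ := exists_pres_five (F := F) (show 5 ≤ n by omega) _ e3 RA eA
      exact ⟨R, by rw [if_neg h4, if_neg h5]; omega, e⟩
  obtain ⟨rels', hc', e'⟩ := reindex_pres (finSumFinEquiv : Fin 4 ⊕ Fin 2 ≃ Fin 6) rels e
  exact ⟨rels', hc'.trans hc, e'⟩

/-- `SL n` and `PSL n` on seven generators -/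
theorem sl_psl_seven [Finite F] {n : ℕ} (hn : 4 ≤ n) :
    (∃ rels : Finset (FreeGroup (Fin 7)), rels.card ≤ 25 ∧
      Nonempty (PresentedGroup (↑rels : Set (FreeGroup (Fin 7))) ≃* Matrix.SpecialLinearGroup (Fin n) F)) ∧
    (∃ rels : Finset (FreeGroup (Fin 7)), rels.card ≤ 26 ∧
      Nonempty (PresentedGroup (↑rels : Set (FreeGroup (Fin 7))) ≃* Matrix.ProjectiveSpecialLinearGroup (Fin n) F)) := by
  classical
  obtain ⟨R6, h6, ⟨e6⟩⟩ := sl_six (F := F) hn
  have h24 : R6.card ≤ 24 := h6.trans (by split_ifs <;> norm_num)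
  obtain ⟨R, hR, ⟨e⟩⟩ := pad_gen R6 e6
  obtain ⟨R7, h7, ⟨e7⟩⟩ := reindex_pres (finSuccEquiv 6).symm R e
  obtain ⟨Q, hQ, eQ⟩ := quot_pres R7 e7 _ (isCyclic_center n)
  exact ⟨⟨R7, by omega, ⟨e7⟩⟩, ⟨Q, by omega, eQ⟩⟩

end CfsgLib.Known.SLBounded
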