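import Cfsg.Agent.Lib.Known.SL3Bounded.Mat
import Cfsg.Agent.Lib.Known.SLn.Faithful
import Cfsg.Agent.Lib.Known.SLn.Transvection
import Cfsg.Agent.Lib.Perm.AltBounded.AltOn
import Cfsg.Agent.Lib.Classical.SLExplicitGenerators

/-!
# `SL n` from a copy of `SL 3` and the alternating group on the coordinates
-/

set_option autoImplicit false

namespace CfsgLib.Known.SLBounded

open CfsgLib.Known.SL3Bounded
open CfsgLib.Perm.AltBounded (cyc)
open scoped commutatorElement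

variable {F : Type*} [Field F]

/-- the transvections of `SL 3` -/
def S3 (F : Type*) [Field F] : SLn.Elem (Fin 3) F (Matrix.SpecialLinearGroup (Fin 3) F) :=
  SLn.slElem (Fin 3) F (by decide)

theorem S3_x {a b : Fin 3} (hab : a ≠ b) (t : F) : (S3 F).x a b t = tm hab t := SLn.slElem_x _ hab t

/-- pushing root elements through a homomorphism -/
def mapElem {ι G H : Type*} [DecidableEq ι] [Group G] [Group H] (E : SLn.Elem ι F G) (f : G →* H) :
    SLn.Elem ι F H where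
  x i j t := f (E.x i j t)
  add i j h t u := by rw [← map_mul, E.add i j h]
  comm i j l h1 h2 h3 t u := by rw [← map_commutatorElement, E.comm i j l h1 h2 h3]
  triv i j k l h1 h2 h3 h4 t u := (E.triv i j k l h1 h2 h3 h4 t u).map f
  third := E.third

theorem c_shift {a b : Fin 3} (hab : a ≠ b) (t : F) :
    cMat * (S3 F).x a b t * (cMat : Matrix.SpecialLinearGroup (Fin 3) F)⁻¹ = (S3 F).x (a + 1) (b + 1) t := by
  have h : a + 1 ≠ b + 1 := fun e => hab (add_right_cancel e)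
  rw [S3_x hab, S3_x h, mul_inv_eq_iff_eq_mul]
  refine sl3_ext ?_
  rw [Matrix.SpecialLinearGroup.coe_mul, Matrix.SpecialLinearGroup.coe_mul, coe_cMat, coe_tm, coe_tm]
  ext i j
  fin_cases a <;> fin_cases b <;> first
    | exact absurd rfl hab
    | (fin_cases i <;> fin_cases j <;>
        simp [Matrix.mul_apply, Fin.sum_univ_three, Matrix.transvection, Matrix.single])

section perms

variable {n : ℕ}

/-- the first coordinates -/
def cast3 (hn : 4 ≤ n) (a : Fin 3) : Fin n := ⟨a.val, lt_of_lt_of_le a.isLt (by omega)⟩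

theorem cast3_ne (hn : 4 ≤ n) {a b : Fin 3} (h : a ≠ b) : cast3 hn a ≠ cast3 hn b :=
  fun e => h (Fin.ext (congrArg Fin.val e :))

/-- the fourth coordinate -/
def four (hn : 4 ≤ n) : Fin n := ⟨3, lt_of_lt_of_le (by norm_num) hn⟩

theorem cast3_ne_four (hn : 4 ≤ n) (a : Fin 3) : cast3 hn a ≠ four hn :=
  fun e => (lt_irrefl 3) (lt_of_le_of_lt (le_of_eq (congrArg Fin.val e :).symm) a.isLt)

theorem exists_map_quad {a b c d i j k l : Fin n} (hab : a ≠ b) (hac : a ≠ c) (had : a ≠ d) (hbc : b ≠ c)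
    (hbd : b ≠ d) (hcd : c ≠ d) (hij : i ≠ j) (hik : i ≠ k) (hil : i ≠ l) (hjk : j ≠ k) (hjl : j ≠ l) (hkl : k ≠ l) :
    ∃ σ : Equiv.Perm (Fin n), σ a = i ∧ σ b = j ∧ σ c = k ∧ σ d = l := by
  have step : ∀ (σ : Equiv.Perm (Fin n)) (x y w : Fin n) (z : Fin n), σ x = y → x ≠ w → y ≠ z →
      (Equiv.swap (σ w) z * σ) x = y := fun σ x y w z h1 h2 h3 => by
    rw [Equiv.Perm.mul_apply, h1, Equiv.swap_apply_of_ne_of_ne (fun e => h2 (σ.injective (h1.trans e))) h3]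
  have last : ∀ (σ : Equiv.Perm (Fin n)) (w z : Fin n), (Equiv.swap (σ w) z * σ) w = z := fun σ w z => by
    rw [Equiv.Perm.mul_apply, Equiv.swap_apply_left]
  obtain ⟨s1, h1⟩ : ∃ σ : Equiv.Perm (Fin n), σ a = i := ⟨Equiv.swap a i, Equiv.swap_apply_left a i⟩
  obtain ⟨s2, h2⟩ : ∃ σ : Equiv.Perm (Fin n), σ a = i ∧ σ b = j := ⟨_, step s1 a i b j h1 hab hij, last s1 b j⟩
  obtain ⟨s3, h3⟩ : ∃ σ : Equiv.Perm (Fin n), σ a = i ∧ σ b = j ∧ σ c = k :=
    ⟨_, step s2 a i c k h2.1 hac hik, step s2 b j c k h2.2 hbc hjk, last s2 c k⟩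
  exact ⟨_, step s3 a i d l h3.1 had hil, step s3 b j d l h3.2.1 hbd hjl, step s3 c k d l h3.2.2 hcd hkl,
    last s3 d l⟩

theorem exists_fourth (hn : 4 ≤ n) (i j l : Fin n) : ∃ m, m ≠ i ∧ m ≠ j ∧ m ≠ l := by
  obtain ⟨m, hm⟩ : ∃ m, m ∉ ({i, j, l} : Finset (Fin n)) := by
    by_contra h
    simp only [not_exists, not_not] at h
    have := Finset.card_le_card (s := (Finset.univ : Finset (Fin n))) (fun x _ => h x)
    rw [Finset.card_univ, Fintype.card_fin] at this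
    have := this.trans (Finset.card_le_three (a := i) (b := j) (c := l))
    omega
  simp only [Finset.mem_insert, Finset.mem_singleton, not_or] at hm
  exact ⟨m, hm⟩

theorem exists_even_pair (hn : 4 ≤ n) {i j : Fin n} (hij : i ≠ j) :
    ∃ σ : alternatingGroup (Fin n), σ.1 (cast3 hn 0) = i ∧ σ.1 (cast3 hn 1) = j := by
  obtain ⟨k, hki, hkj, -⟩ := exists_fourth hn i j j
  obtain ⟨l, hli, hlj, hlk⟩ := exists_fourth hn i j k
  obtain ⟨σ, h0, h1, -, -⟩ := exists_map_quad (cast3_ne hn (show (0 : Fin 3) ≠ 1 by decide))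
    (cast3_ne hn (show (0 : Fin 3) ≠ 2 by decide)) (cast3_ne_four hn 0) (cast3_ne hn (show (1 : Fin 3) ≠ 2 by decide))
    (cast3_ne_four hn 1) (cast3_ne_four hn 2) hij hki.symm hli.symm hkj.symm hlj.symm hlk.symm
  rcases Int.units_eq_one_or (Equiv.Perm.sign σ) with h | h
  · exact ⟨⟨σ, Equiv.Perm.mem_alternatingGroup.2 h⟩, h0, h1⟩
  · refine ⟨⟨σ * Equiv.swap (cast3 hn 2) (four hn), Equiv.Perm.mem_alternatingGroup.2 ?_⟩, ?_, ?_⟩
    · rw [map_mul, h, Equiv.Perm.sign_swap (cast3_ne_four hn 2)]; rfl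
    · rw [Equiv.Perm.mul_apply, Equiv.swap_apply_of_ne_of_ne (cast3_ne hn (by decide)) (cast3_ne_four hn 0), h0]
    · rw [Equiv.Perm.mul_apply, Equiv.swap_apply_of_ne_of_ne (cast3_ne hn (by decide)) (cast3_ne_four hn 1), h1]

theorem exists_even_triple (hn : 4 ≤ n) {i j l : Fin n} (hij : i ≠ j) (hjl : j ≠ l) (hil : i ≠ l) :
    ∃ (σ : alternatingGroup (Fin n)) (a b d : Fin 3), a ≠ b ∧ b ≠ d ∧ a ≠ d ∧
      σ.1 (cast3 hn a) = i ∧ σ.1 (cast3 hn b) = j ∧ σ.1 (cast3 hn d) = l := by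
  obtain ⟨m, hmi, hmj, hml⟩ := exists_fourth hn i j l
  obtain ⟨σ, h0, h1, h2, -⟩ := exists_map_quad (cast3_ne hn (show (0 : Fin 3) ≠ 1 by decide))
    (cast3_ne hn (show (0 : Fin 3) ≠ 2 by decide)) (cast3_ne_four hn 0) (cast3_ne hn (show (1 : Fin 3) ≠ 2 by decide))
    (cast3_ne_four hn 1) (cast3_ne_four hn 2) hij hil hmi.symm hjl hmj.symm hml.symm
  rcases Int.units_eq_one_or (Equiv.Perm.sign σ) with h | h
  · exact ⟨⟨σ, Equiv.Perm.mem_alternatingGroup.2 h⟩, 0, 1, 2, by decide, by decide, by decide, h0, h1, h2⟩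
  · refine ⟨⟨σ * Equiv.swap (cast3 hn 0) (cast3 hn 1), Equiv.Perm.mem_alternatingGroup.2 ?_⟩, 1, 0, 2, by decide,
      by decide, by decide, ?_, ?_, ?_⟩
    · rw [map_mul, h, Equiv.Perm.sign_swap (cast3_ne hn (by decide))]; rfl
    · rw [Equiv.Perm.mul_apply, Equiv.swap_apply_right, h0]
    · rw [Equiv.Perm.mul_apply, Equiv.swap_apply_left, h1]
    · rw [Equiv.Perm.mul_apply, Equiv.swap_apply_of_ne_of_ne (cast3_ne hn (by decide)) (cast3_ne hn (by decide)), h2]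

theorem exists_even_quad (hn : 4 ≤ n) {i j k l : Fin n} (hij : i ≠ j) (hik : i ≠ k) (hil : i ≠ l) (hjk : j ≠ k)
    (hjl : j ≠ l) (hkl : k ≠ l) :
    ∃ σ : alternatingGroup (Fin n), (σ.1 (cast3 hn 0) = i ∧ σ.1 (cast3 hn 1) = j ∧ σ.1 (cast3 hn 2) = k ∧
        σ.1 (four hn) = l) ∨
      (σ.1 (cast3 hn 2) = i ∧ σ.1 (cast3 hn 1) = j ∧ σ.1 (cast3 hn 0) = k ∧ σ.1 (four hn) = l) := by
  obtain ⟨σ, h0, h1, h2, h3⟩ := exists_map_quad (cast3_ne hn (show (0 : Fin 3) ≠ 1 by decide))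
    (cast3_ne hn (show (0 : Fin 3) ≠ 2 by decide)) (cast3_ne_four hn 0) (cast3_ne hn (show (1 : Fin 3) ≠ 2 by decide))
    (cast3_ne_four hn 1) (cast3_ne_four hn 2) hij hik hil hjk hjl hkl
  rcases Int.units_eq_one_or (Equiv.Perm.sign σ) with h | h
  · exact ⟨⟨σ, Equiv.Perm.mem_alternatingGroup.2 h⟩, Or.inl ⟨h0, h1, h2, h3⟩⟩
  · refine ⟨⟨σ * Equiv.swap (cast3 hn 0) (cast3 hn 2), Equiv.Perm.mem_alternatingGroup.2 ?_⟩,
      Or.inr ⟨?_, ?_, ?_, ?_⟩⟩
    · rw [map_mul, h, Equiv.Perm.sign_swap (cast3_ne hn (by decide))]; rfl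
    · rw [Equiv.Perm.mul_apply, Equiv.swap_apply_right, h0]
    · rw [Equiv.Perm.mul_apply, Equiv.swap_apply_of_ne_of_ne (cast3_ne hn (by decide)) (cast3_ne hn (by decide)), h1]
    · rw [Equiv.Perm.mul_apply, Equiv.swap_apply_left, h2]
    · rw [Equiv.Perm.mul_apply, Equiv.swap_apply_of_ne_of_ne (cast3_ne_four hn 0).symm (cast3_ne_four hn 2).symm, h3]

/-- the three-cycle of the first coordinates -/
def c012 (hn : 4 ≤ n) : alternatingGroup (Fin n) :=
  ⟨cyc (cast3 hn 0) (cast3 hn 1) (cast3 hn 2), Equiv.Perm.mem_alternatingGroup.2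
    (CfsgLib.Perm.AltBounded.cyc_isThreeCycle (cast3_ne hn (by decide)) (cast3_ne hn (by decide))
      (cast3_ne hn (by decide))).sign⟩

theorem c012_apply (hn : 4 ≤ n) (a : Fin 3) : (c012 hn).1 (cast3 hn a) = cast3 hn (a + 1) := by
  have h01 := cast3_ne hn (show (0 : Fin 3) ≠ 1 by decide)
  have h02 := cast3_ne hn (show (0 : Fin 3) ≠ 2 by decide)
  have h12 := cast3_ne hn (show (1 : Fin 3) ≠ 2 by decide)
  fin_cases a
  · exact CfsgLib.Perm.AltBounded.cyc_apply_A h01 h02 h12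
  · exact CfsgLib.Perm.AltBounded.cyc_apply_B h02 h12
  · exact CfsgLib.Perm.AltBounded.cyc_apply_i

end perms

/-- the gluing data -/
structure Setup (F : Type*) [Field F] (n : ℕ) (G : Type*) [Group G] where
  hn : 4 ≤ n
  ψ : Matrix.SpecialLinearGroup (Fin 3) F →* G
  α : alternatingGroup (Fin n) →* G
  hc : ψ cMat = α (c012 hn)
  stab : ∀ u : alternatingGroup (Fin n), u.1 (cast3 hn 0) = cast3 hn 0 → u.1 (cast3 hn 1) = cast3 hn 1 →
    ∀ t : F, Commute (α u) (ψ ((S3 F).x 0 1 t))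
  flip : ∃ π : alternatingGroup (Fin n), π.1 (cast3 hn 0) = cast3 hn 1 ∧ π.1 (cast3 hn 1) = cast3 hn 0 ∧
    ∀ t : F, α π * ψ ((S3 F).x 0 1 t) * (α π)⁻¹ = ψ ((S3 F).x 1 0 t)
  disj : ∃ σ : alternatingGroup (Fin n), σ.1 (cast3 hn 0) = cast3 hn 2 ∧ σ.1 (cast3 hn 1) = four hn ∧
    Commute (ψ ((S3 F).x 0 1 1)) (α σ * ψ ((S3 F).x 0 1 1) * (α σ)⁻¹)

namespace Setup

variable {n : ℕ} {G : Type*} [Group G] (D : Setup F n G)

open Classical in
/-- the root elements -/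
noncomputable def X (i j : Fin n) (t : F) : G :=
  if h : i ≠ j then D.α (exists_even_pair D.hn h).choose * D.ψ ((S3 F).x 0 1 t) *
    (D.α (exists_even_pair D.hn h).choose)⁻¹ else 1

theorem X_eq {σ : alternatingGroup (Fin n)} {i j : Fin n} (hij : i ≠ j) (h0 : σ.1 (cast3 D.hn 0) = i)
    (h1 : σ.1 (cast3 D.hn 1) = j) (t : F) : D.X i j t = D.α σ * D.ψ ((S3 F).x 0 1 t) * (D.α σ)⁻¹ := by
  rw [X, dif_pos hij]
  obtain ⟨τ, hτ⟩ : ∃ τ, τ = (exists_even_pair D.hn hij).choose := ⟨_, rfl⟩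
  obtain ⟨k0, k1⟩ := (exists_even_pair D.hn hij).choose_spec
  rw [← hτ] at k0 k1 ⊢
  have hfix : ∀ p q : Fin n, σ.1 p = q → τ.1 p = q → (τ⁻¹ * σ).1 p = p := fun p q e1 e2 => by
    rw [Subgroup.coe_mul, Subgroup.coe_inv, Equiv.Perm.mul_apply, e1, ← e2, ← Equiv.Perm.mul_apply,
      inv_mul_cancel, Equiv.Perm.one_apply]
  have hc := D.stab (τ⁻¹ * σ) (hfix _ _ h0 k0) (hfix _ _ h1 k1) t
  rw [commute_iff_eq, ← mul_inv_eq_iff_eq_mul] at hc
  rw [show σ = τ * (τ⁻¹ * σ) by group, map_mul,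
    show D.α τ * D.α (τ⁻¹ * σ) * D.ψ ((S3 F).x 0 1 t) * (D.α τ * D.α (τ⁻¹ * σ))⁻¹ =
      D.α τ * (D.α (τ⁻¹ * σ) * D.ψ ((S3 F).x 0 1 t) * (D.α (τ⁻¹ * σ))⁻¹) * (D.α τ)⁻¹ by group, hc]

theorem X_conj (σ : alternatingGroup (Fin n)) {i j : Fin n} (hij : i ≠ j) (t : F) :
    D.α σ * D.X i j t * (D.α σ)⁻¹ = D.X (σ.1 i) (σ.1 j) t := by
  obtain ⟨τ, k0, k1⟩ := exists_even_pair D.hn hij
  rw [D.X_eq hij k0 k1, D.X_eq (σ := σ * τ) (σ.1.injective.ne hij)
    (by rw [Subgroup.coe_mul, Equiv.Perm.mul_apply, k0]) (by rw [Subgroup.coe_mul, Equiv.Perm.mul_apply, k1]),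
    map_mul]
  group

theorem c_x {a b : Fin 3} (hab : a ≠ b) (t : F) :
    D.α (c012 D.hn) * D.ψ ((S3 F).x a b t) * (D.α (c012 D.hn))⁻¹ = D.ψ ((S3 F).x (a + 1) (b + 1) t) := by
  rw [← D.hc, ← map_inv, ← map_mul, ← map_mul, c_shift hab]

theorem base_step {a b : Fin 3} (hab : a ≠ b)
    (h : ∀ t, D.X (cast3 D.hn a) (cast3 D.hn b) t = D.ψ ((S3 F).x a b t)) (t : F) :
    D.X (cast3 D.hn (a + 1)) (cast3 D.hn (b + 1)) t = D.ψ ((S3 F).x (a + 1) (b + 1) t) := by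
  rw [← c012_apply, ← c012_apply, ← D.X_conj _ (cast3_ne D.hn hab), h, D.c_x hab]

theorem X_base {a b : Fin 3} (hab : a ≠ b) (t : F) :
    D.X (cast3 D.hn a) (cast3 D.hn b) t = D.ψ ((S3 F).x a b t) := by
  obtain ⟨π, p0, p1, hπ⟩ := D.flip
  have h01 : ∀ t, D.X (cast3 D.hn 0) (cast3 D.hn 1) t = D.ψ ((S3 F).x 0 1 t) := fun t => by
    rw [D.X_eq (σ := 1) (cast3_ne D.hn (by decide)) rfl rfl, map_one, one_mul, inv_one, mul_one]
  have h10 : ∀ t, D.X (cast3 D.hn 1) (cast3 D.hn 0) t = D.ψ ((S3 F).x 1 0 t) := fun t => by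
    rw [D.X_eq (cast3_ne D.hn (by decide)) p0 p1, hπ]
  have h12 := D.base_step (show (0 : Fin 3) ≠ 1 by decide) h01
  have h20 := D.base_step (show (0 : Fin 3) + 1 ≠ 1 + 1 by decide) h12
  have h21 := D.base_step (show (1 : Fin 3) ≠ 0 by decide) h10
  have h02 := D.base_step (show (1 : Fin 3) + 1 ≠ 0 + 1 by decide) h21
  fin_cases a <;> fin_cases b <;> first
    | exact absurd rfl hab
    | exact h01 t
    | exact h10 t
    | exact h12 t
    | exact h20 t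
    | exact h21 t
    | exact h02 t

/-- the copy of `SL 3` on a triple -/
def tri (σ : alternatingGroup (Fin n)) : SLn.Elem (Fin 3) F G :=
  mapElem (S3 F) ((MulAut.conj (D.α σ)).toMonoidHom.comp D.ψ)

theorem tri_x (σ : alternatingGroup (Fin n)) {a b : Fin 3} (hab : a ≠ b) (t : F) :
    (D.tri σ).x a b t = D.X (σ.1 (cast3 D.hn a)) (σ.1 (cast3 D.hn b)) t := by
  rw [← D.X_conj σ (cast3_ne D.hn hab), D.X_base hab]
  rfl

theorem X_add {i j : Fin n} (hij : i ≠ j) (t u : F) : D.X i j t * D.X i j u = D.X i j (t + u) := by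
  obtain ⟨σ, k0, k1⟩ := exists_even_pair D.hn hij
  have h := (D.tri σ).add 0 1 (by decide) t u
  rw [D.tri_x σ (by decide), D.tri_x σ (by decide), D.tri_x σ (by decide), k0, k1] at h
  exact h

theorem X_comm {i j l : Fin n} (hij : i ≠ j) (hjl : j ≠ l) (hil : i ≠ l) (t u : F) :
    ⁅D.X i j t, D.X j l u⁆ = D.X i l (t * u) := by
  obtain ⟨σ, a, b, d, hab, hbd, had, rfl, rfl, rfl⟩ := exists_even_triple D.hn hij hjl hil
  rw [← D.tri_x σ hab, ← D.tri_x σ hbd, ← D.tri_x σ had]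
  exact (D.tri σ).comm a b d hab hbd had t u

theorem row {i j l : Fin n} (hij : i ≠ j) (hjl : j ≠ l) (hil : i ≠ l) (t u : F) :
    Commute (D.X i j t) (D.X i l u) := by
  obtain ⟨σ, a, b, d, hab, hbd, had, rfl, rfl, rfl⟩ := exists_even_triple D.hn hij hjl hil
  rw [← D.tri_x σ hab, ← D.tri_x σ had]
  exact (D.tri σ).triv a b a d hab had hab.symm had t u

theorem col {i j k : Fin n} (hij : i ≠ j) (hjk : j ≠ k) (hik : i ≠ k) (t u : F) :
    Commute (D.X i j t) (D.X k j u) := by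
  obtain ⟨σ, a, b, d, hab, hbd, had, rfl, rfl, rfl⟩ := exists_even_triple D.hn hij hjk hik
  rw [← D.tri_x σ hab, ← D.tri_x σ hbd.symm]
  exact (D.tri σ).triv a b d b hab hbd.symm hbd hab t u

theorem right {i j k : Fin n} (hij : i ≠ j) (hjk : j ≠ k) (hik : i ≠ k) (t u : F) :
    D.X i j t * D.X k i u * (D.X i j t)⁻¹ = D.X k j (-(u * t)) * D.X k i u := by
  obtain ⟨σ, a, b, d, hab, hbd, had, rfl, rfl, rfl⟩ := exists_even_triple D.hn hij hjk hik
  rw [← D.tri_x σ hab, ← D.tri_x σ had.symm, ← D.tri_x σ hbd.symm]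
  exact (D.tri σ).x_right hab had.symm hbd.symm t u

/-- the torus element of a pair -/
noncomputable def H (j k : Fin n) (c : F) : G :=
  D.X j k c * D.X k j (-c⁻¹) * D.X j k c * (D.X j k (-1) * D.X k j (-(-1 : F)⁻¹) * D.X j k (-1))

theorem tri_h (σ : alternatingGroup (Fin n)) {a b : Fin 3} (hab : a ≠ b) (c : F) :
    (D.tri σ).h a b c = D.H (σ.1 (cast3 D.hn a)) (σ.1 (cast3 D.hn b)) c := by
  simp only [SLn.Elem.h, SLn.Elem.w, H, ← D.tri_x σ hab, ← D.tri_x σ hab.symm]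

theorem H_outer {j k m : Fin n} (hjk : j ≠ k) (hkm : k ≠ m) (hjm : j ≠ m) {c : F} (hc : c ≠ 0) (t : F) :
    D.H j k c * D.X m j t * (D.H j k c)⁻¹ = D.X m j (t / c) ∧
      D.H j k c * D.X k m t * (D.H j k c)⁻¹ = D.X k m (c⁻¹ * t) := by
  obtain ⟨σ, a, b, d, hab, hbd, had, rfl, rfl, rfl⟩ := exists_even_triple D.hn hjk hkm hjm
  rw [← D.tri_h σ hab, ← D.tri_x σ had.symm, ← D.tri_x σ had.symm, ← D.tri_x σ hbd, ← D.tri_x σ hbd,
    ((D.tri σ).mon_h hab hc).2 d a had.symm t, ((D.tri σ).mon_h hab hc).2 b d hbd t]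
  simp [SLn.Elem.hE, hab.symm, had.symm, hbd.symm]

/-- two disjoint root elements commute -/
def C (i j k l : Fin n) (t u : F) : Prop := Commute (D.X i j t) (D.X k l u)

variable {i j k l : Fin n} (hij : i ≠ j) (hik : i ≠ k) (hil : i ≠ l) (hjk : j ≠ k) (hjl : j ≠ l) (hkl : k ≠ l)
include hij hik hil hjk hjl hkl

theorem C_iff (t u : F) : D.C i j k l t u ↔ D.C k j i l (-(u * t)) 1 := by
  have h2 : D.X i j t * D.X i l 1 * (D.X i j t)⁻¹ = D.X i l 1 := by
    rw [(D.row hij hjl hil t 1).eq, mul_inv_cancel_right]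
  have hkl' : D.X k l u = ⁅D.X k i u, D.X i l 1⁆ := by rw [D.X_comm hik.symm hil hkl, mul_one]
  obtain ⟨g, hg⟩ : ∃ g, g = D.X i j t := ⟨_, rfl⟩
  obtain ⟨a, ha⟩ : ∃ a, a = D.X k j (-(u * t)) := ⟨_, rfl⟩
  have hconj : g * D.X k l u * g⁻¹ = D.X k l u * ⁅a, D.X i l 1⁆ := by
    have e : g * D.X k l u * g⁻¹ = ⁅a * D.X k i u, D.X i l 1⁆ := by
      rw [hkl', show g * ⁅D.X k i u, D.X i l 1⁆ * g⁻¹ = ⁅g * D.X k i u * g⁻¹, g * D.X i l 1 * g⁻¹⁆ by
        simp only [commutatorElement_def]; group, hg, ha, D.right hij hjk hik, h2]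
    rw [e, show ⁅a * D.X k i u, D.X i l 1⁆ = a * ⁅D.X k i u, D.X i l 1⁆ * a⁻¹ * ⁅a, D.X i l 1⁆ by
      simp only [commutatorElement_def]; group, ← hkl', ha, (D.row hjk.symm hjl hkl _ u).eq, mul_inv_cancel_right]
  unfold C
  rw [← hg, ← ha, commute_iff_eq, ← mul_inv_eq_iff_eq_mul, hconj, mul_eq_left, commutatorElement_eq_one_iff_commute]

theorem C_add {t t' : F} (h : D.C i j k l t 1) (h' : D.C i j k l t' 1) : D.C i j k l (t + t') 1 := by
  unfold C
  rw [← D.X_add hij]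
  exact Commute.mul_left h h'

theorem C_square {t : F} (h : D.C i j k l t 1) {s : F} (hs : s ≠ 0) : D.C i j k l (t * (s * s)) 1 := by
  have hc : s⁻¹ ≠ 0 := inv_ne_zero hs
  have hconj := Commute.map h (MulAut.conj (D.H j k s⁻¹)).toMonoidHom
  simp only [MulEquiv.coe_toMonoidHom, MulAut.conj_apply] at hconj
  rw [(D.H_outer hjk hik.symm hij.symm hc t).1, (D.H_outer hjk hkl hjl hc 1).2, inv_inv, mul_one,
    div_inv_eq_mul] at hconj
  have h1 := (D.C_iff hij hik hil hjk hjl hkl (t * s) s).1 hconj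
  refine (D.C_iff hij hik hil hjk hjl hkl (t * (s * s)) 1).2 ?_
  rwa [show (-(1 * (t * (s * s))) : F) = -(s * (t * s)) by ring]

theorem C_all [Finite F] (h : D.C i j k l 1 1) (t : F) : D.C i j k l t 1 := by
  have hz : D.C i j k l 0 1 := by
    unfold C
    have := D.X_add hij (0 : F) 0
    rw [add_zero] at this
    rw [mul_eq_left.1 this]
    exact Commute.one_left _
  have hsq : ∀ a : F, D.C i j k l (a * a) 1 := fun a => by
    rcases eq_or_ne a 0 with rfl | ha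
    · rw [mul_zero]; exact hz
    · have := D.C_square hij hik hil hjk hjl hkl h ha
      rwa [one_mul] at this
  haveI : Fintype F := Fintype.ofFinite F
  obtain ⟨a, b, e⟩ := CfsgLib.Classical.exists_sum_two_sq t
  subst t
  exact D.C_add hij hik hil hjk hjl hkl (hsq a) (hsq b)

omit hij hik hil hjk hjl hkl in
theorem C_base [Finite F] (t u : F) : D.C (cast3 D.hn 0) (cast3 D.hn 1) (cast3 D.hn 2) (four D.hn) t u ∧
    D.C (cast3 D.hn 2) (cast3 D.hn 1) (cast3 D.hn 0) (four D.hn) t u := by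
  have h01 := cast3_ne D.hn (show (0 : Fin 3) ≠ 1 by decide)
  have h02 := cast3_ne D.hn (show (0 : Fin 3) ≠ 2 by decide)
  have h12 := cast3_ne D.hn (show (1 : Fin 3) ≠ 2 by decide)
  have h03 := cast3_ne_four D.hn 0
  have h13 := cast3_ne_four D.hn 1
  have h23 := cast3_ne_four D.hn 2
  have h1 : D.C (cast3 D.hn 0) (cast3 D.hn 1) (cast3 D.hn 2) (four D.hn) 1 1 := by
    obtain ⟨σ, s0, s1, hσ⟩ := D.disj
    unfold C
    rw [D.X_base (show (0 : Fin 3) ≠ 1 by decide), D.X_eq h23 s0 s1]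
    exact hσ
  have hA := D.C_all h01 h02 h03 h12 h13 h23 h1
  have hB : ∀ t, D.C (cast3 D.hn 2) (cast3 D.hn 1) (cast3 D.hn 0) (four D.hn) t 1 := fun t => by
    have := (D.C_iff h01 h02 h03 h12 h13 h23 (-t) 1).1 (hA _)
    rwa [one_mul, neg_neg] at this
  exact ⟨(D.C_iff h01 h02 h03 h12 h13 h23 t u).2 (hB _),
    (D.C_iff h12.symm h02.symm h23 h01.symm h13 h03 t u).2 (hA _)⟩

theorem C_any [Finite F] (t u : F) : D.C i j k l t u := by
  obtain ⟨σ, ⟨rfl, rfl, rfl, rfl⟩ | ⟨rfl, rfl, rfl, rfl⟩⟩ := exists_even_quad D.hn hij hik hil hjk hjl hkl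
  all_goals
    unfold C
    rw [← D.X_conj σ, ← D.X_conj σ]
  · exact ((D.C_base t u).1).map (MulAut.conj (D.α σ)).toMonoidHom
  · exact fun e => hkl (congrArg σ.1 e)
  · exact fun e => hij (congrArg σ.1 e)
  · exact ((D.C_base t u).2).map (MulAut.conj (D.α σ)).toMonoidHom
  · exact fun e => hkl (congrArg σ.1 e)
  · exact fun e => hij (congrArg σ.1 e)

omit hij hik hil hjk hjl hkl

/-- the elementary family of `G` -/
noncomputable def elem [Finite F] : SLn.Elem (Fin n) F G where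
  x := D.X
  add _ _ hij := D.X_add hij
  comm _ _ _ hij hjl hil := D.X_comm hij hjl hil
  triv i j k l hij hkl hjk hil t u := by
    by_cases hik : i = k
    · subst hik
      by_cases hjl : j = l
      · subst hjl
        rw [commute_iff_eq, D.X_add hij, D.X_add hij, add_comm]
      · exact D.row hij hjl hil t u
    · by_cases hjl : j = l
      · subst hjl
        exact D.col hij hjk hik t u
      · exact D.C_any hij hik hil hjk hjl hkl t u
  third := CfsgLib.Classical.exists_third (by have := D.hn; omega)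

theorem elem_gen [Finite F] (hgen : D.ψ.range ⊔ D.α.range = ⊤) : D.elem.Gen := by
  obtain ⟨K, hK⟩ : ∃ K, K = Subgroup.closure {g | ∃ i j t, i ≠ j ∧ g = D.elem.x i j t} := ⟨_, rfl⟩
  unfold SLn.Elem.Gen
  rw [← hK]
  have hX : ∀ i j t, i ≠ j → D.X i j t ∈ K := fun i j t h => hK ▸ Subgroup.subset_closure ⟨i, j, t, h, rfl⟩
  have hψ : ∀ M, D.ψ M ∈ K := by
    have h : K.comap D.ψ = ⊤ := CfsgLib.Classical.closure_transvection_eq_top _ fun a b hab t => by
      rw [Subgroup.mem_comap]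
      change D.ψ (tm hab t) ∈ K
      rw [← S3_x hab, ← D.X_base hab]
      exact hX _ _ _ (cast3_ne D.hn hab)
    intro M
    exact (show M ∈ K.comap D.ψ from h ▸ Subgroup.mem_top M)
  have hnorm : ∀ σ, ∀ g ∈ K, D.α σ * g * (D.α σ)⁻¹ ∈ K := by
    intro σ g hg
    conv at hg => rw [hK]
    induction hg using Subgroup.closure_induction with
    | mem x hx =>
      obtain ⟨i, j, t, hij, rfl⟩ := hx
      show D.α σ * D.X i j t * _ ∈ K
      rw [D.X_conj σ hij]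
      exact hX _ _ _ (σ.1.injective.ne hij)
    | one => simp
    | mul a b _ _ ha hb => rw [SLn.Elem.conj_mul_conj]; exact mul_mem ha hb
    | inv a _ ha => rw [show D.α σ * a⁻¹ * (D.α σ)⁻¹ = (D.α σ * a * (D.α σ)⁻¹)⁻¹ by group]; exact inv_mem ha
  have hα : ∀ σ : alternatingGroup (Fin n), D.α σ ∈ K := by
    have h01 := cast3_ne D.hn (show (0 : Fin 3) ≠ 1 by decide)
    have hle : CfsgLib.Perm.AltBounded.altOn (Finset.univ : Finset (Fin n)) ≤
        (K.comap D.α).map (alternatingGroup (Fin n)).subtype := by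
      refine CfsgLib.Perm.AltBounded.altOn_le_of_base (Finset.mem_univ (cast3 D.hn 0))
        (Finset.mem_univ (cast3 D.hn 1)) h01 fun i _ h0 h1 => ?_
      have hc : c012 D.hn ∈ K.comap D.α := by
        rw [Subgroup.mem_comap, ← D.hc]; exact hψ _
      by_cases h2 : i = cast3 D.hn 2
      · subst h2
        exact ⟨_, hc, rfl⟩
      · have h02 := cast3_ne D.hn (show (0 : Fin 3) ≠ 2 by decide)
        have h12 := cast3_ne D.hn (show (1 : Fin 3) ≠ 2 by decide)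
        let σ : alternatingGroup (Fin n) := ⟨Equiv.swap (cast3 D.hn 0) (cast3 D.hn 1) * Equiv.swap (cast3 D.hn 2) i,
          Equiv.Perm.mem_alternatingGroup.2 (by
            rw [map_mul, Equiv.Perm.sign_swap h01, Equiv.Perm.sign_swap (Ne.symm h2)]; rfl)⟩
        have hin : (σ * c012 D.hn * σ⁻¹)⁻¹ ∈ K.comap D.α := by
          refine inv_mem ?_
          rw [Subgroup.mem_comap, map_mul, map_mul, map_inv]
          exact hnorm σ _ hc
        refine ⟨_, hin, ?_⟩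
        show ((σ * c012 D.hn * σ⁻¹)⁻¹ : alternatingGroup (Fin n)).1 = _
        simp only [Subgroup.coe_inv, Subgroup.coe_mul, c012, σ]
        rw [CfsgLib.Perm.AltBounded.cyc_conj]
        simp only [Equiv.Perm.mul_apply]
        rw [Equiv.swap_apply_of_ne_of_ne h02 h0.symm, Equiv.swap_apply_left,
          Equiv.swap_apply_of_ne_of_ne h12 h1.symm, Equiv.swap_apply_right, Equiv.swap_apply_left,
          Equiv.swap_apply_of_ne_of_ne h0 h1, CfsgLib.Perm.AltBounded.cyc_inv h01.symm h1.symm h0.symm]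
    intro σ
    obtain ⟨τ, hτ, e⟩ := hle (show (σ : Equiv.Perm (Fin n)) ∈ CfsgLib.Perm.AltBounded.altOn Finset.univ by
      rw [CfsgLib.Perm.AltBounded.altOn_univ]; exact σ.2)
    rw [← Subtype.ext e]
    exact hτ
  rw [eq_top_iff, ← hgen]
  exact sup_le (by rintro _ ⟨M, rfl⟩; exact hψ M) (by rintro _ ⟨σ, rfl⟩; exact hα σ)

theorem bijective [Finite F] (hgen : D.ψ.range ⊔ D.α.range = ⊤) (θ : G →* Matrix.SpecialLinearGroup (Fin n) F)
    (hθψ : ∀ t, θ (D.ψ ((S3 F).x 0 1 t)) =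
      Matrix.SpecialLinearGroup.transvection (cast3_ne D.hn (show (0 : Fin 3) ≠ 1 by decide)) t)
    (hθα : ∀ (σ : alternatingGroup (Fin n)) {i j : Fin n} (hij : i ≠ j) (t : F),
      θ (D.α σ) * Matrix.SpecialLinearGroup.transvection hij t * (θ (D.α σ))⁻¹ =
        Matrix.SpecialLinearGroup.transvection (σ.1.injective.ne hij) t) : Function.Bijective θ := by
  have hn := D.hn
  have hθ : ∀ i j (hij : i ≠ j) t, θ (D.X i j t) = Matrix.SpecialLinearGroup.transvection hij t := by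
    intro i j hij t
    obtain ⟨σ, rfl, rfl⟩ := exists_even_pair D.hn hij
    rw [D.X_eq hij rfl rfl, map_mul, map_mul, map_inv, hθψ, hθα]
  refine ⟨SLn.injective_of_gen (E := D.elem) θ (fun a b hab t => ?_) (D.elem_gen hgen) (by omega),
    MonoidHom.range_eq_top.1 ?_⟩
  · show (θ (D.X a b t) : Matrix (Fin n) (Fin n) F) = _
    rw [hθ a b hab t]
    rfl
  · haveI : Nontrivial (Fin n) := Fin.nontrivial_iff_two_le.2 (by omega)
    exact CfsgLib.Classical.closure_transvection_eq_top _ fun i j hij t => ⟨D.X i j t, hθ i j hij t⟩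

end Setup

end CfsgLib.Known.SLBounded
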