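import Cfsg.Agent.Lib.Known.SLBounded.Glue
import Cfsg.Agent.Lib.Known.ClassicalSections

/-!
# The block and the permutation matrices inside `SL n`
-/

set_option autoImplicit false

namespace CfsgLib.Known.SLBounded

open CfsgLib.Known.SL3Bounded

variable {F : Type*} [Field F] {n : ℕ}

/-- coordinates -/
def split (hn : 4 ≤ n) : Fin 3 ⊕ Fin (n - 3) ≃ Fin n := finSumFinEquiv.trans (finCongr (by omega))

theorem split_inl (hn : 4 ≤ n) (a : Fin 3) : split hn (Sum.inl a) = cast3 hn a := Fin.ext (by simp [split, cast3])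

theorem split_inr (hn : 4 ≤ n) (b : Fin (n - 3)) : (split hn (Sum.inr b)).val = 3 + b.val := by simp [split]

/-- the block of the first coordinates -/
def inc (F : Type*) [Field F] (hn : 4 ≤ n) :
    Matrix.SpecialLinearGroup (Fin 3) F →* Matrix.SpecialLinearGroup (Fin n) F :=
  CfsgLib.Known.ClassicalSections.blockSL (split hn)

theorem inc_apply (hn : 4 ≤ n) (M : Matrix.SpecialLinearGroup (Fin 3) F) (x y : Fin 3 ⊕ Fin (n - 3)) :
    (inc F hn M : Matrix (Fin n) (Fin n) F) (split hn x) (split hn y) = Matrix.fromBlocks M.1 0 0 1 x y := by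
  show Matrix.reindex (split hn) (split hn) (Matrix.fromBlocks M.1 0 0 1) (split hn x) (split hn y) = _
  simp [Matrix.reindex_apply]

theorem inc_x (hn : 4 ≤ n) {a b : Fin 3} (hab : a ≠ b) (t : F) :
    inc F hn ((S3 F).x a b t) = Matrix.SpecialLinearGroup.transvection (cast3_ne hn hab) t := by
  rw [S3_x hab]
  refine Subtype.ext (Matrix.ext fun i j => ?_)
  obtain ⟨x, rfl⟩ := (split hn).surjective i
  obtain ⟨y, rfl⟩ := (split hn).surjective j
  rw [inc_apply]
  show _ = Matrix.transvection (cast3 hn a) (cast3 hn b) t (split hn x) (split hn y)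
  have h3 : ∀ (c : Fin 3) (z : Fin 3 ⊕ Fin (n - 3)), (cast3 hn c = split hn z) ↔ Sum.inl c = z := fun c z => by
    rw [← split_inl, (split hn).injective.eq_iff]
  rcases x with x | x <;> rcases y with y | y <;>
    simp [Matrix.transvection, Matrix.single_apply, Matrix.one_apply, h3, (split hn).injective.eq_iff,
      coe_tm, Matrix.add_apply]

/-- permutation matrices -/
def perm (F : Type*) [Field F] (n : ℕ) : alternatingGroup (Fin n) →* Matrix.SpecialLinearGroup (Fin n) F :=
  CfsgLib.Known.ClassicalSections.altSL n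

theorem perm_apply (σ : alternatingGroup (Fin n)) (i j : Fin n) :
    (perm F n σ : Matrix (Fin n) (Fin n) F) i j = if σ.1 j = i then 1 else 0 := by
  show Matrix.permMatrixHom (n := Fin n) (R := F) σ.1 i j = _
  rw [Matrix.permMatrixHom_apply]
  by_cases h : σ.1 j = i
  · subst h
    simp [Equiv.Perm.permMatrix, PEquiv.toMatrix_apply, Equiv.toPEquiv_apply]
  · rw [if_neg h]
    simp [Equiv.Perm.permMatrix, PEquiv.toMatrix_apply, Equiv.toPEquiv_apply, Equiv.Perm.inv_def,
      Equiv.symm_apply_eq, Ne.symm h]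

theorem perm_smul (σ : alternatingGroup (Fin n)) (x : Fin n → F) (i : Fin n) :
    (perm F n σ • x) i = x (σ.1⁻¹ i) := by
  show Matrix.mulVec (perm F n σ : Matrix (Fin n) (Fin n) F) x i = _
  rw [Matrix.mulVec, dotProduct, Finset.sum_eq_single (σ.1⁻¹ i)]
  · rw [perm_apply, if_pos (by simp), one_mul]
  · intro j _ hj
    rw [perm_apply, if_neg (fun e => hj (by simp [← e])), zero_mul]
  · simp

theorem perm_conj (σ : alternatingGroup (Fin n)) {i j : Fin n} (hij : i ≠ j) (t : F) :
    perm F n σ * Matrix.SpecialLinearGroup.transvection hij t * (perm F n σ)⁻¹ =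
      Matrix.SpecialLinearGroup.transvection (σ.1.injective.ne hij) t := by
  rw [← map_inv]
  refine CfsgLib.Classical.sl_ext_smul fun x => funext fun l => ?_
  simp only [mul_smul, perm_smul, CfsgLib.Classical.transvection_smul_apply, Subgroup.coe_inv, inv_inv]
  by_cases h : σ.1⁻¹ l = i
  · rw [if_pos h, if_pos (by rw [← h]; simp)]
    simp [← h]
  · rw [if_neg h, if_neg (fun e => h (by rw [e]; simp))]
    simp

theorem inc_c (hn : 4 ≤ n) : inc F hn cMat = perm F n (c012 hn) := by
  refine Subtype.ext (Matrix.ext fun i j => ?_)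
  obtain ⟨x, rfl⟩ := (split hn).surjective i
  obtain ⟨y, rfl⟩ := (split hn).surjective j
  rw [inc_apply, perm_apply, coe_cMat]
  have hfix : ∀ b : Fin (n - 3), (c012 hn).1 (split hn (Sum.inr b)) = split hn (Sum.inr b) := fun b => by
    have hne : ∀ a : Fin 3, split hn (Sum.inr b) ≠ cast3 hn a := fun a e => by
      rw [← split_inl] at e
      exact Sum.inr_ne_inl ((split hn).injective e)
    exact CfsgLib.Perm.AltBounded.cyc_apply_of_ne (hne 0) (hne 1) (hne 2)
  rcases y with y | y
  · rw [split_inl, c012_apply, ← split_inl]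
    simp only [(split hn).injective.eq_iff]
    rcases x with x | x
    · fin_cases x <;> fin_cases y <;> simp
    · simp
  · rw [hfix]
    simp only [(split hn).injective.eq_iff]
    rcases x with x | x <;> simp [Matrix.one_apply, eq_comm]

theorem perm_inc_fix (hn : 4 ≤ n) (σ : alternatingGroup (Fin n)) {a b a' b' : Fin 3} (hab : a ≠ b)
    (hab' : a' ≠ b') (ha : σ.1 (cast3 hn a) = cast3 hn a') (hb : σ.1 (cast3 hn b) = cast3 hn b') (c : F) :
    perm F n σ * inc F hn ((S3 F).h a b c) * (perm F n σ)⁻¹ = inc F hn ((S3 F).h a' b' c) ∧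
      perm F n σ * inc F hn ((S3 F).x a b c) * (perm F n σ)⁻¹ = inc F hn ((S3 F).x a' b' c) := by
  have key : ∀ t, perm F n σ * inc F hn ((S3 F).x a b t) * (perm F n σ)⁻¹ = inc F hn ((S3 F).x a' b' t) := fun t => by
    rw [inc_x hn hab, inc_x hn hab', perm_conj]
    simp only [ha, hb]
  have key' : ∀ t, perm F n σ * inc F hn ((S3 F).x b a t) * (perm F n σ)⁻¹ = inc F hn ((S3 F).x b' a' t) := fun t => by
    rw [inc_x hn hab.symm, inc_x hn hab'.symm, perm_conj]
    simp only [ha, hb]
  refine ⟨?_, key c⟩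
  simp only [SLn.Elem.h, SLn.Elem.w, map_mul, SLn.Elem.conj_mul_conj, key, key']

end CfsgLib.Known.SLBounded
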