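import Cfsg.Agent.Lib.Known.SLBounded.Perm
import Cfsg.Agent.Lib.Perm.AltBounded.All

/-!
# A presentation of `SL n` of bounded length
-/

set_option autoImplicit false

namespace CfsgLib.Known.SLBounded

open CfsgLib.Known.SL3Bounded
open CfsgLib.Perm.AltBounded (cyc altOn viaHom)

variable {F : Type*} [Field F]

section torus

variable {ω : Fˣ} (hcyc : ∀ x : Fˣ, x ∈ Subgroup.zpowers ω)
include hcyc

omit hcyc in
theorem h_act (t : F) :
    (S3 F).h 0 1 (ω : F) * (S3 F).x 0 1 t * ((S3 F).h 0 1 (ω : F))⁻¹ = (S3 F).x 0 1 ((ω : F) * ω * t) := by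
  rw [((S3 F).mon_h (show (0 : Fin 3) ≠ 1 by decide) ω.ne_zero).2 0 1 (by decide) t]
  have h0 : SLn.Elem.hE (0 : Fin 3) 1 (ω : F) 0 = (ω : F) := if_pos rfl
  have h1 : SLn.Elem.hE (0 : Fin 3) 1 (ω : F) 1 = (ω : F)⁻¹ := by simp [SLn.Elem.hE]
  rw [h0, h1, Equiv.Perm.one_apply, Equiv.Perm.one_apply, div_inv_eq_mul]
  congr 1; ring

omit hcyc in
theorem h_act' (t : F) :
    (S3 F).h 1 0 (ω : F) * (S3 F).x 1 0 t * ((S3 F).h 1 0 (ω : F))⁻¹ = (S3 F).x 1 0 ((ω : F) * ω * t) := by
  rw [((S3 F).mon_h (show (1 : Fin 3) ≠ 0 by decide) ω.ne_zero).2 1 0 (by decide) t]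
  have h0 : SLn.Elem.hE (1 : Fin 3) 0 (ω : F) 1 = (ω : F) := if_pos rfl
  have h1 : SLn.Elem.hE (1 : Fin 3) 0 (ω : F) 0 = (ω : F)⁻¹ := by simp [SLn.Elem.hE]
  rw [h0, h1, Equiv.Perm.one_apply, Equiv.Perm.one_apply, div_inv_eq_mul]
  congr 1; ring

/-- a property of scalars closed under sums and scaling by `ω²` holds everywhere -/
theorem spread [Finite F] (P : F → Prop) (h0 : P 0) (h1 : P 1) (hadd : ∀ s t, P s → P t → P (s + t))
    (hω : ∀ t, P t → P ((ω : F) * ω * t)) (t : F) : P t := by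
  haveI : Fintype F := Fintype.ofFinite F
  have hpow : ∀ k : ℕ, P (((ω : F) ^ k) * ((ω : F) ^ k)) := fun k => by
    induction k with
    | zero => simpa using h1
    | succ k ih =>
      have := hω _ ih
      rwa [show (ω : F) * ω * ((ω : F) ^ k * (ω : F) ^ k) = (ω : F) ^ (k + 1) * (ω : F) ^ (k + 1) by ring] at this
  have hsq : ∀ a : F, P (a * a) := fun a => by
    rcases eq_or_ne a 0 with rfl | ha
    · simpa using h0
    · obtain ⟨k, hk⟩ : ∃ k : ℕ, ω ^ k = Units.mk0 a ha := mem_powers_iff_mem_zpowers.2 (hcyc _)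
      have hk' := congrArg Units.val hk
      rw [Units.val_pow_eq_pow_val, Units.val_mk0] at hk'
      exact hk' ▸ hpow k
  obtain ⟨a, b, e⟩ := CfsgLib.Classical.exists_sum_two_sq t
  exact e ▸ hadd _ _ (hsq a) (hsq b)

/-- commuting with a root element and the torus spreads over the root group -/
theorem commute_root [Finite F] {G : Type*} [Group G] (ψ : Matrix.SpecialLinearGroup (Fin 3) F →* G) {g : G}
    (ha : Commute g (ψ ((S3 F).x 0 1 1))) (hh : Commute g (ψ ((S3 F).h 0 1 (ω : F)))) (t : F) :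
    Commute g (ψ ((S3 F).x 0 1 t)) := by
  refine spread hcyc (fun t => Commute g (ψ ((S3 F).x 0 1 t))) ?_ ha ?_ ?_ t
  · rw [(S3 F).x_zero (by decide), map_one]; exact Commute.one_right g
  · intro s t hs ht
    rw [← (S3 F).add 0 1 (by decide), map_mul]; exact hs.mul_right ht
  · intro t ht
    rw [← h_act, map_mul, map_mul, map_inv]; exact (hh.mul_right ht).mul_right hh.inv_right

/-- an element exchanging the two root groups -/
theorem flip_root [Finite F] {G : Type*} [Group G] (ψ : Matrix.SpecialLinearGroup (Fin 3) F →* G) {g : G}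
    (ha : g * ψ ((S3 F).x 0 1 1) * g⁻¹ = ψ ((S3 F).x 1 0 1))
    (hh : g * ψ ((S3 F).h 0 1 (ω : F)) * g⁻¹ = ψ ((S3 F).h 1 0 (ω : F))) (t : F) :
    g * ψ ((S3 F).x 0 1 t) * g⁻¹ = ψ ((S3 F).x 1 0 t) := by
  refine spread hcyc (fun t => g * ψ ((S3 F).x 0 1 t) * g⁻¹ = ψ ((S3 F).x 1 0 t)) ?_ ha ?_ ?_ t
  · rw [(S3 F).x_zero (by decide), (S3 F).x_zero (by decide), map_one, mul_one, mul_inv_cancel]
  · intro s t hs ht
    rw [← (S3 F).add 0 1 (by decide), ← (S3 F).add 1 0 (by decide), map_mul, map_mul, SLn.Elem.conj_mul_conj, hs, ht]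
  · intro t ht
    rw [← h_act, ← h_act', map_mul, map_mul, map_inv, map_mul, map_mul, map_inv, ← hh, ← ht]
    group

end torus

section stabiliser

variable {n : ℕ}

theorem viaHom_cyc {T α : Type*} [Fintype T] [DecidableEq T] [Fintype α] [DecidableEq α] (f : T ↪ α) (a b c : T) :
    viaHom f (cyc a b c) = cyc (f a) (f b) (f c) := by
  have hsw : ∀ a b : T, viaHom f (Equiv.swap a b) = Equiv.swap (f a) (f b) := fun a b =>
    (CfsgLib.Perm.AltBounded.viaHom_ext f (fun x => (f.injective.swap_apply a b x).trans rfl) fun x hx =>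
      Equiv.swap_apply_of_ne_of_ne (hx a).symm (hx b).symm).symm
  simp only [cyc, map_mul, hsw]

/-- two generators for the stabiliser of two coordinates -/
theorem exists_stab_gens (hn : 4 ≤ n) : ∃ s : Fin 2 → alternatingGroup (Fin n),
    (∀ i, (s i).1 (cast3 hn 0) = cast3 hn 0 ∧ (s i).1 (cast3 hn 1) = cast3 hn 1) ∧
      ∀ u : alternatingGroup (Fin n), u.1 (cast3 hn 0) = cast3 hn 0 → u.1 (cast3 hn 1) = cast3 hn 1 →
        u ∈ Subgroup.closure (Set.range s) := by
  obtain ⟨R, -, ⟨e⟩⟩ := (CfsgLib.Perm.AltBounded.sym_alt_two_gen (n - 2)).2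
  let f : Fin (n - 2) ↪ Fin n := ⟨fun i => ⟨i.val + 2, by omega⟩, fun i j h => Fin.ext (by simpa using h)⟩
  have hf : ∀ i, f i ≠ cast3 hn 0 ∧ f i ≠ cast3 hn 1 := fun i => by
    constructor
    · intro h
      have h' : i.val + 2 = 0 := congrArg Fin.val h
      omega
    · intro h
      have h' : i.val + 2 = 1 := congrArg Fin.val h
      omega
  let ι : alternatingGroup (Fin (n - 2)) →* alternatingGroup (Fin n) :=
    ((viaHom f).comp (alternatingGroup (Fin (n - 2))).subtype).codRestrict _ fun x =>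
      Equiv.Perm.mem_alternatingGroup.2 (by
        show Equiv.Perm.sign (viaHom f x.1) = 1
        rw [CfsgLib.Perm.AltBounded.viaHom_sign]; exact Equiv.Perm.mem_alternatingGroup.1 x.2)
  have hι : ∀ x, (ι x).1 = viaHom f x.1 := fun _ => rfl
  let s : Fin 2 → alternatingGroup (Fin n) := fun i => ι (e (PresentedGroup.of i))
  refine ⟨s, fun i => ⟨?_, ?_⟩, fun u h0 h1 => ?_⟩
  · rw [show (s i).1 = viaHom f _ from hι _, CfsgLib.Perm.AltBounded.viaHom_fix f _ fun a => (hf a).1]
  · rw [show (s i).1 = viaHom f _ from hι _, CfsgLib.Perm.AltBounded.viaHom_fix f _ fun a => (hf a).2]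
  · have hrange : ι.range ≤ Subgroup.closure (Set.range s) := by
      have h : (ι.comp e.toMonoidHom).range ≤ Subgroup.closure (Set.range s) := by
        rw [MonoidHom.range_eq_map, ← PresentedGroup.closure_range_of (↑R : Set (FreeGroup (Fin 2))),
          MonoidHom.map_closure, ← Set.range_comp]
        rfl
      rintro _ ⟨x, rfl⟩
      exact h ⟨e.symm x, by simp⟩
    let p : Fin (n - 2) := ⟨0, by omega⟩
    let q : Fin (n - 2) := ⟨1, by omega⟩
    have hpq : p ≠ q := by simp [p, q]
    have hle : altOn ((Finset.univ : Finset (Fin (n - 2))).map f) ≤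
        ι.range.map (alternatingGroup (Fin n)).subtype := by
      refine CfsgLib.Perm.AltBounded.altOn_le_of_base (A := f p) (B := f q) (by simp) (by simp)
        (f.injective.ne hpq) fun v hv k1 k2 => ?_
      obtain ⟨x, -, rfl⟩ := Finset.mem_map.1 hv
      have hxp : x ≠ p := fun h => k1 (by rw [h])
      have hxq : x ≠ q := fun h => k2 (by rw [h])
      refine ⟨_, ⟨⟨cyc p q x, Equiv.Perm.mem_alternatingGroup.2
        (CfsgLib.Perm.AltBounded.cyc_isThreeCycle hpq hxp.symm hxq.symm).sign⟩, rfl⟩, ?_⟩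
      exact (hι _).trans (viaHom_cyc f p q x)
    obtain ⟨τ, hτ, e'⟩ := hle (show (u : Equiv.Perm (Fin n)) ∈ altOn _ from ⟨Equiv.Perm.mem_alternatingGroup.1 u.2,
      fun v hv => by
        by_cases hv2 : 2 ≤ v.val
        · exact absurd (Finset.mem_map.2 ⟨⟨v.val - 2, by omega⟩, Finset.mem_univ _, Fin.ext (show v.val - 2 + 2 = v.val by omega)⟩) hv
        · rcases (show v.val = 0 ∨ v.val = 1 by omega) with h | h
          · rw [show v = cast3 hn 0 from Fin.ext h, h0]
          · rw [show v = cast3 hn 1 from Fin.ext h, h1]⟩)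
    rw [← Subtype.ext e']
    exact hrange hτ

end stabiliser

/-- transporting a presentation along an equivalence of generators -/
theorem reindex_pres {α β : Type*} [Fintype α] [DecidableEq α] [DecidableEq β] (σ : α ≃ β)
    (rels : Finset (FreeGroup α)) {H : Type*} [Group H] (e : PresentedGroup (↑rels : Set (FreeGroup α)) ≃* H) :
    ∃ rels' : Finset (FreeGroup β), rels'.card ≤ rels.card ∧
      Nonempty (PresentedGroup (↑rels' : Set (FreeGroup β)) ≃* H) := by
  classical
  refine ⟨rels.image (FreeGroup.freeGroupCongr σ), Finset.card_image_le, ⟨?_⟩⟩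
  rw [Finset.coe_image]
  exact ((PresentedGroup.equivPresentedGroup (↑rels : Set (FreeGroup α)) σ).symm).trans e

/-- the words and relations gluing two presentations -/
theorem exists_pres [Finite F] {n : ℕ} (hn : 4 ≤ n) {α3 αA : Type*} (R3 : Finset (FreeGroup α3))
    (e3 : PresentedGroup (↑R3 : Set (FreeGroup α3)) ≃* Matrix.SpecialLinearGroup (Fin 3) F)
    (RA : Finset (FreeGroup αA)) (eA : PresentedGroup (↑RA : Set (FreeGroup αA)) ≃* alternatingGroup (Fin n)) :
    ∃ rels : Finset (FreeGroup (α3 ⊕ αA)), rels.card ≤ R3.card + RA.card + 8 ∧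
      Nonempty (PresentedGroup (↑rels : Set (FreeGroup (α3 ⊕ αA))) ≃* Matrix.SpecialLinearGroup (Fin n) F) := by
  classical
  obtain ⟨ω, hcyc⟩ := IsCyclic.exists_generator (α := Fˣ)
  obtain ⟨s, hs, hsgen⟩ := exists_stab_gens hn
  have h01 : (0 : Fin 3) ≠ 1 := by decide
  obtain ⟨π, hπ0, hπ1⟩ := exists_even_pair hn (cast3_ne hn h01.symm)
  obtain ⟨σ, hσ0, hσ1⟩ := exists_even_pair hn (cast3_ne_four hn 2)
  choose v hv using fun M : Matrix.SpecialLinearGroup (Fin 3) F =>
    (e3.surjective.comp (PresentedGroup.mk_surjective (↑R3 : Set (FreeGroup α3)))) M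
  choose w hw using fun u : alternatingGroup (Fin n) =>
    (eA.surjective.comp (PresentedGroup.mk_surjective (↑RA : Set (FreeGroup αA)))) u
  let V : Matrix.SpecialLinearGroup (Fin 3) F → FreeGroup (α3 ⊕ αA) := fun M => FreeGroup.map Sum.inl (v M)
  let W : alternatingGroup (Fin n) → FreeGroup (α3 ⊕ αA) := fun u => FreeGroup.map Sum.inr (w u)
  let a := (S3 F).x 0 1 1
  let b := (S3 F).x 1 0 1
  let h := (S3 F).h 0 1 (ω : F)
  let h' := (S3 F).h 1 0 (ω : F)
  let com : FreeGroup (α3 ⊕ αA) → FreeGroup (α3 ⊕ αA) → FreeGroup (α3 ⊕ αA) := fun x y => x * y * x⁻¹ * y⁻¹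
  let L : List (FreeGroup (α3 ⊕ αA)) := [V cMat * (W (c012 hn))⁻¹, com (W (s 0)) (V a), com (W (s 0)) (V h),
    com (W (s 1)) (V a), com (W (s 1)) (V h), W π * V a * (W π)⁻¹ * (V b)⁻¹, W π * V h * (W π)⁻¹ * (V h')⁻¹,
    com (V a) (W σ * V a * (W σ)⁻¹)]
  let R : Finset (FreeGroup (α3 ⊕ αA)) :=
    (R3.image (FreeGroup.map Sum.inl) ∪ RA.image (FreeGroup.map Sum.inr)) ∪ L.toFinset
  let g : α3 ⊕ αA → Matrix.SpecialLinearGroup (Fin n) F :=
    Sum.elim (fun i => inc F hn (e3 (PresentedGroup.of i))) (fun j => perm F n (eA (PresentedGroup.of j)))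
  have hgl : (FreeGroup.lift g).comp (FreeGroup.map Sum.inl) =
      ((inc F hn).comp e3.toMonoidHom).comp (PresentedGroup.mk _) :=
    FreeGroup.ext_hom _ _ fun i => by simp [g, PresentedGroup.of]
  have hgr : (FreeGroup.lift g).comp (FreeGroup.map Sum.inr) =
      ((perm F n).comp eA.toMonoidHom).comp (PresentedGroup.mk _) :=
    FreeGroup.ext_hom _ _ fun i => by simp [g, PresentedGroup.of]
  have hV : ∀ M, FreeGroup.lift g (V M) = inc F hn M := fun M =>
    (DFunLike.congr_fun hgl (v M)).trans (congrArg (inc F hn) (hv M))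
  have hW : ∀ u, FreeGroup.lift g (W u) = perm F n u := fun u =>
    (DFunLike.congr_fun hgr (w u)).trans (congrArg (perm F n) (hw u))
  have hcomm : ∀ {x y : Matrix.SpecialLinearGroup (Fin n) F}, x * y * x⁻¹ = y → x * y * x⁻¹ * y⁻¹ = 1 :=
    fun e => by rw [e, mul_inv_cancel]
  have hR : ∀ r ∈ (↑R : Set (FreeGroup (α3 ⊕ αA))), FreeGroup.lift g r = 1 := by
    intro r hr
    rcases Finset.mem_union.1 (Finset.mem_coe.1 hr) with hr | hr
    · rcases Finset.mem_union.1 hr with hr | hr
      · obtain ⟨x, hx, rfl⟩ := Finset.mem_image.1 hr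
        rw [← MonoidHom.comp_apply, hgl, MonoidHom.comp_apply, PresentedGroup.one_of_mem (Finset.mem_coe.2 hx),
          map_one]
      · obtain ⟨x, hx, rfl⟩ := Finset.mem_image.1 hr
        rw [← MonoidHom.comp_apply, hgr, MonoidHom.comp_apply, PresentedGroup.one_of_mem (Finset.mem_coe.2 hx),
          map_one]
    · simp only [List.mem_toFinset, L, List.mem_cons, List.not_mem_nil, or_false] at hr
      rcases hr with rfl | rfl | rfl | rfl | rfl | rfl | rfl | rfl
      · rw [map_mul, map_inv, hV, hW, inc_c, mul_inv_cancel]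
      · simp only [com, map_mul, map_inv, hV, hW]
        exact hcomm (perm_inc_fix hn (s 0) h01 h01 (hs 0).1 (hs 0).2 1).2
      · simp only [com, map_mul, map_inv, hV, hW]
        exact hcomm (perm_inc_fix hn (s 0) h01 h01 (hs 0).1 (hs 0).2 (ω : F)).1
      · simp only [com, map_mul, map_inv, hV, hW]
        exact hcomm (perm_inc_fix hn (s 1) h01 h01 (hs 1).1 (hs 1).2 1).2
      · simp only [com, map_mul, map_inv, hV, hW]
        exact hcomm (perm_inc_fix hn (s 1) h01 h01 (hs 1).1 (hs 1).2 (ω : F)).1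
      · simp only [map_mul, map_inv, hV, hW]
        rw [(perm_inc_fix hn π h01 h01.symm hπ0 hπ1 1).2, mul_inv_cancel]
      · simp only [map_mul, map_inv, hV, hW]
        rw [(perm_inc_fix hn π h01 h01.symm hπ0 hπ1 (ω : F)).1, mul_inv_cancel]
      · simp only [com, map_mul, map_inv, hV, hW]
        rw [show a = (S3 F).x 0 1 1 from rfl, inc_x hn h01, perm_conj]
        refine hcomm ?_
        rw [(SLn.tr_triv (cast3_ne hn h01) _ ?_ ?_ (1 : F) 1).eq, mul_inv_cancel_right]
        · rw [hσ0]; exact cast3_ne hn (by decide)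
        · rw [hσ1]; exact cast3_ne_four hn 0
  let θ := PresentedGroup.toGroup hR
  let mk := PresentedGroup.mk (↑R : Set (FreeGroup (α3 ⊕ αA)))
  have hl : ∀ x ∈ (↑R3 : Set (FreeGroup α3)), FreeGroup.lift (fun i => mk (FreeGroup.of (Sum.inl i))) x = 1 := by
    intro x hx
    rw [show FreeGroup.lift (fun i => mk (FreeGroup.of (Sum.inl i))) = mk.comp (FreeGroup.map Sum.inl) from
      FreeGroup.ext_hom _ _ fun i => by simp, MonoidHom.comp_apply]
    exact PresentedGroup.one_of_mem (Finset.mem_coe.2 (Finset.mem_union_left _ (Finset.mem_union_left _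
      (Finset.mem_image_of_mem _ (Finset.mem_coe.1 hx)))))
  have hr : ∀ x ∈ (↑RA : Set (FreeGroup αA)), FreeGroup.lift (fun i => mk (FreeGroup.of (Sum.inr i))) x = 1 := by
    intro x hx
    rw [show FreeGroup.lift (fun i => mk (FreeGroup.of (Sum.inr i))) = mk.comp (FreeGroup.map Sum.inr) from
      FreeGroup.ext_hom _ _ fun i => by simp, MonoidHom.comp_apply]
    exact PresentedGroup.one_of_mem (Finset.mem_coe.2 (Finset.mem_union_left _ (Finset.mem_union_right _
      (Finset.mem_image_of_mem _ (Finset.mem_coe.1 hx)))))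
  let ψ := (PresentedGroup.toGroup hl).comp e3.symm.toMonoidHom
  let α := (PresentedGroup.toGroup hr).comp eA.symm.toMonoidHom
  have hψV : ∀ M, mk (V M) = ψ M := fun M => by
    conv_rhs => rw [← hv M]
    show mk (FreeGroup.map Sum.inl (v M)) = PresentedGroup.toGroup hl (e3.symm (e3 (PresentedGroup.mk _ (v M))))
    rw [e3.symm_apply_apply]
    exact DFunLike.congr_fun (FreeGroup.ext_hom (mk.comp (FreeGroup.map Sum.inl))
      ((PresentedGroup.toGroup hl).comp (PresentedGroup.mk _)) fun i => by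
        show mk (FreeGroup.map Sum.inl (FreeGroup.of i)) = PresentedGroup.toGroup hl (PresentedGroup.of i)
        rw [FreeGroup.map.of, PresentedGroup.toGroup.of]) (v M)
  have hαW : ∀ u, mk (W u) = α u := fun u => by
    conv_rhs => rw [← hw u]
    show mk (FreeGroup.map Sum.inr (w u)) = PresentedGroup.toGroup hr (eA.symm (eA (PresentedGroup.mk _ (w u))))
    rw [eA.symm_apply_apply]
    exact DFunLike.congr_fun (FreeGroup.ext_hom (mk.comp (FreeGroup.map Sum.inr))
      ((PresentedGroup.toGroup hr).comp (PresentedGroup.mk _)) fun i => by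
        show mk (FreeGroup.map Sum.inr (FreeGroup.of i)) = PresentedGroup.toGroup hr (PresentedGroup.of i)
        rw [FreeGroup.map.of, PresentedGroup.toGroup.of]) (w u)
  have hL : ∀ r ∈ L, mk r = 1 := fun r hr =>
    PresentedGroup.one_of_mem (Finset.mem_coe.2 (Finset.mem_union_right _ (List.mem_toFinset.2 hr)))
  simp only [L, List.mem_cons, List.not_mem_nil, or_false, forall_eq_or_imp, forall_eq, com, map_mul, map_inv,
    hψV, hαW, mul_inv_eq_one] at hL
  obtain ⟨q1, q2, q3, q4, q5, q6, q7, q8⟩ := hL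
  have hstab : ∀ k t, Commute (α (s k)) (ψ ((S3 F).x 0 1 t)) := by
    intro k
    fin_cases k
    · exact commute_root hcyc ψ (mul_inv_eq_iff_eq_mul.1 q2) (mul_inv_eq_iff_eq_mul.1 q3)
    · exact commute_root hcyc ψ (mul_inv_eq_iff_eq_mul.1 q4) (mul_inv_eq_iff_eq_mul.1 q5)
  let D : Setup F n (PresentedGroup (↑R : Set (FreeGroup (α3 ⊕ αA)))) :=
    { hn := hn
      ψ := ψ
      α := α
      hc := q1
      stab := fun u h0 h1 t => by
        have hu := hsgen u h0 h1
        clear h0 h1
        induction hu using Subgroup.closure_induction with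
        | mem x hx => obtain ⟨k, rfl⟩ := hx; exact hstab k t
        | one => rw [map_one]; exact Commute.one_left _
        | mul x y _ _ hx hy => rw [map_mul]; exact hx.mul_left hy
        | inv x _ hx => rw [map_inv]; exact hx.inv_left
      flip := ⟨π, hπ0, hπ1, flip_root hcyc ψ q6 q7⟩
      disj := ⟨σ, hσ0, hσ1, mul_inv_eq_iff_eq_mul.1 q8⟩ }
  have hθψ : ∀ M, θ (ψ M) = inc F hn M := fun M => by rw [← hψV]; exact hV M
  have hθα : ∀ u, θ (α u) = perm F n u := fun u => by rw [← hαW]; exact hW u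
  have hgen : D.ψ.range ⊔ D.α.range = ⊤ := by
    rw [eq_top_iff, ← PresentedGroup.closure_range_of (↑R : Set (FreeGroup (α3 ⊕ αA))), Subgroup.closure_le]
    rintro _ ⟨i | j, rfl⟩
    · refine Subgroup.mem_sup_left ⟨e3 (PresentedGroup.of i), ?_⟩
      show PresentedGroup.toGroup hl (e3.symm (e3 _)) = _
      rw [e3.symm_apply_apply, PresentedGroup.toGroup.of]
      rfl
    · refine Subgroup.mem_sup_right ⟨eA (PresentedGroup.of j), ?_⟩
      show PresentedGroup.toGroup hr (eA.symm (eA _)) = _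
      rw [eA.symm_apply_apply, PresentedGroup.toGroup.of]
      rfl
  refine ⟨R, ?_, ⟨MulEquiv.ofBijective θ (D.bijective hgen θ (fun t => ?_) fun u i j hij t => ?_)⟩⟩
  · refine (Finset.card_union_le _ _).trans (add_le_add ((Finset.card_union_le _ _).trans
      (add_le_add Finset.card_image_le Finset.card_image_le)) ((List.toFinset_card_le _).trans (by simp [L])))
  · show θ (ψ _) = _
    rw [hθψ, inc_x hn h01]
  · show θ (α u) * _ * (θ (α u))⁻¹ = _
    rw [hθα]
    exact perm_conj u hij t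

/-- dividing by a cyclic centre costs one relation -/
theorem quot_pres {α : Type*} (rels : Finset (FreeGroup α)) {H : Type*} [Group H]
    (e : PresentedGroup (↑rels : Set (FreeGroup α)) ≃* H) (Z : Subgroup H) [Z.Normal] (hZ : IsCyclic Z) :
    ∃ rels' : Finset (FreeGroup α), rels'.card ≤ rels.card + 1 ∧
      Nonempty (PresentedGroup (↑rels' : Set (FreeGroup α)) ≃* H ⧸ Z) := by
  classical
  obtain ⟨z, hz⟩ := hZ.exists_generator
  obtain ⟨v, hv⟩ := (e.surjective.comp (PresentedGroup.mk_surjective (↑rels : Set (FreeGroup α)))) z.1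
  let R : Finset (FreeGroup α) := insert v rels
  let g : α → H ⧸ Z := fun i => QuotientGroup.mk' Z (e (PresentedGroup.of i))
  have hg : FreeGroup.lift g = ((QuotientGroup.mk' Z).comp e.toMonoidHom).comp (PresentedGroup.mk _) :=
    FreeGroup.ext_hom _ _ fun i => by simp [g, PresentedGroup.of]
  have hR : ∀ r ∈ (↑R : Set (FreeGroup α)), FreeGroup.lift g r = 1 := by
    intro r hr
    rw [hg, MonoidHom.comp_apply, MonoidHom.comp_apply]
    rcases Finset.mem_insert.1 (Finset.mem_coe.1 hr) with rfl | h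
    · exact (QuotientGroup.eq_one_iff _).2 (by
        show e (PresentedGroup.mk _ r) ∈ Z
        rw [show e (PresentedGroup.mk _ r) = z.1 from hv]; exact z.2)
    · rw [PresentedGroup.one_of_mem (Finset.mem_coe.2 h), map_one, map_one]
  have hl : ∀ r ∈ (↑rels : Set (FreeGroup α)),
      FreeGroup.lift (fun i => (PresentedGroup.of i : PresentedGroup (↑R : Set (FreeGroup α)))) r = 1 := by
    intro r hr
    rw [show FreeGroup.lift (fun i => (PresentedGroup.of i : PresentedGroup (↑R : Set (FreeGroup α)))) =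
      PresentedGroup.mk _ from FreeGroup.ext_hom _ _ fun i => by simp [PresentedGroup.of]]
    exact PresentedGroup.one_of_mem (Finset.mem_coe.2 (Finset.mem_insert_of_mem (Finset.mem_coe.1 hr)))
  let f : H →* PresentedGroup (↑R : Set (FreeGroup α)) := (PresentedGroup.toGroup hl).comp e.symm.toMonoidHom
  have hf : ∀ w, f (e (PresentedGroup.mk _ w)) = PresentedGroup.mk _ w := fun w => by
    show PresentedGroup.toGroup hl (e.symm (e _)) = _
    rw [e.symm_apply_apply]
    exact DFunLike.congr_fun (FreeGroup.ext_hom ((PresentedGroup.toGroup hl).comp (PresentedGroup.mk _))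
      (PresentedGroup.mk _) fun i => PresentedGroup.toGroup.of hl) w
  have hfz : Z ≤ f.ker := fun y hy => by
    obtain ⟨k, hk⟩ := Subgroup.mem_zpowers_iff.1 (hz ⟨y, hy⟩)
    have hk' : z.1 ^ k = y := congrArg Subtype.val hk
    rw [MonoidHom.mem_ker, ← hk', map_zpow, ← hv, Function.comp_apply, hf,
      PresentedGroup.one_of_mem (Finset.mem_coe.2 (Finset.mem_insert_self _ _)), one_zpow]
  obtain ⟨e', -⟩ := CfsgLib.Perm.AltBounded.Tietze.iso_of_back (↑R : Set (FreeGroup α)) g hR
    (QuotientGroup.lift Z f hfz) (fun q => by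
      obtain ⟨x, rfl⟩ := QuotientGroup.mk'_surjective Z q
      obtain ⟨w, rfl⟩ := (e.surjective.comp (PresentedGroup.mk_surjective (↑rels : Set (FreeGroup α)))) x
      show PresentedGroup.toGroup hR (f (e (PresentedGroup.mk _ w))) = _
      rw [hf]
      exact DFunLike.congr_fun hg w) fun i => ⟨g i, by
      show f (e (PresentedGroup.of i)) = _
      exact hf (FreeGroup.of i)⟩
  exact ⟨R, Finset.card_insert_le _ _, ⟨e'⟩⟩

end CfsgLib.Known.SLBounded
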