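import Cfsg.Agent.Lib.Known.SLBounded.Perm
import Cfsg.Agent.Lib.Perm.AltBounded.All

/-!
# One element and an involution giving the stabiliser of two coordinates
-/

set_option autoImplicit false

namespace CfsgLib.Known.SLBounded

open CfsgLib.Perm.AltBounded (cyc altOn rot)

variable {n : ℕ}

/-- a coordinate -/
def pk (k : ℕ) (hk : k < n) : Fin n := ⟨k, hk⟩

theorem exists_stab_pair_explicit (hn : 5 ≤ n) : ∃ π u : alternatingGroup (Fin n),
    π.1 = Equiv.swap (cast3 (show 4 ≤ n by omega) 0) (cast3 (show 4 ≤ n by omega) 1) *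
      Equiv.swap (pk 3 (by omega)) (pk 4 (by omega)) ∧
    π.1 (cast3 (by omega) 0) = cast3 (by omega) 1 ∧ π.1 (cast3 (by omega) 1) = cast3 (by omega) 0 ∧
    π.1 (cast3 (by omega) 2) = cast3 (show 4 ≤ n by omega) 2 ∧ π * π = 1 ∧
    u.1 (cast3 (by omega) 0) = cast3 (by omega) 0 ∧ u.1 (cast3 (by omega) 1) = cast3 (show 4 ≤ n by omega) 1 ∧
    ∀ g : alternatingGroup (Fin n), g.1 (cast3 (by omega) 0) = cast3 (show 4 ≤ n by omega) 0 →
      g.1 (cast3 (by omega) 1) = cast3 (show 4 ≤ n by omega) 1 →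
      g ∈ Subgroup.closure ({u, π * u * π⁻¹} : Set (alternatingGroup (Fin n))) := by
  obtain ⟨z0, hz0⟩ : ∃ z, z = pk (n := n) 0 (by omega) := ⟨_, rfl⟩
  obtain ⟨z1, hz1⟩ : ∃ z, z = pk (n := n) 1 (by omega) := ⟨_, rfl⟩
  obtain ⟨z2, hz2⟩ : ∃ z, z = pk (n := n) 2 (by omega) := ⟨_, rfl⟩
  obtain ⟨z3, hz3⟩ : ∃ z, z = pk (n := n) 3 (by omega) := ⟨_, rfl⟩
  obtain ⟨z4, hz4⟩ : ∃ z, z = pk (n := n) 4 (by omega) := ⟨_, rfl⟩
  have v0 : z0.val = 0 := hz0 ▸ rfl
  have v1 : z1.val = 1 := hz1 ▸ rfl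
  have v2 : z2.val = 2 := hz2 ▸ rfl
  have v3 : z3.val = 3 := hz3 ▸ rfl
  have v4 : z4.val = 4 := hz4 ▸ rfl
  have ne : ∀ {x y : Fin n}, x.val ≠ y.val → x ≠ y := fun h e => h (congrArg Fin.val e)
  have e0 : cast3 (show 4 ≤ n by omega) 0 = z0 := Fin.ext v0.symm
  have e1 : cast3 (show 4 ≤ n by omega) 1 = z1 := Fin.ext v1.symm
  have e2 : cast3 (show 4 ≤ n by omega) 2 = z2 := Fin.ext v2.symm
  simp only [e0, e1, e2]
  have h01 : z0 ≠ z1 := ne (by omega)
  have h34 : z3 ≠ z4 := ne (by omega)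
  -- the long cycle of odd length
  obtain ⟨d, hd⟩ : ∃ d, d = (n + 1) % 2 := ⟨_, rfl⟩
  obtain ⟨l, hl⟩ : ∃ l, l + 1 = n - 2 - d := ⟨n - 3 - d, by omega⟩
  let f : Fin (l + 1) ↪ Fin n :=
    ⟨fun i => if h : i.val + 3 + d < n then ⟨i.val + 3 + d, h⟩ else z2, fun i j hij => by
      have := i.2
      have := j.2
      apply Fin.ext
      simp only at hij
      split_ifs at hij <;> simp only [Fin.ext_iff, v2] at hij <;> omega⟩
  have hf : ∀ i, (f i).val = if i.val + 3 + d < n then i.val + 3 + d else 2 := fun i => by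
    show (if h : i.val + 3 + d < n then (⟨i.val + 3 + d, h⟩ : Fin n) else z2).val = _
    split_ifs <;> first | rfl | exact v2
  let π : alternatingGroup (Fin n) := ⟨Equiv.swap z0 z1 * Equiv.swap z3 z4, Equiv.Perm.mem_alternatingGroup.2 (by
    rw [map_mul, Equiv.Perm.sign_swap h01, Equiv.Perm.sign_swap h34]; rfl)⟩
  have hsign : Equiv.Perm.sign (rot f) = 1 := by
    rw [rot, CfsgLib.Perm.AltBounded.viaHom_sign, sign_finRotate]
    exact Even.neg_one_pow ⟨l / 2, by omega⟩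
  let u : alternatingGroup (Fin n) := ⟨rot f, Equiv.Perm.mem_alternatingGroup.2 hsign⟩
  have hufix : ∀ v, (∀ i, f i ≠ v) → u.1 v = v := fun v hv => CfsgLib.Perm.AltBounded.rot_fix f hv
  have huT : ∀ v : Fin n, v.val < 2 → u.1 v = v := fun v hv => hufix v fun i e => by
    have := congrArg Fin.val e
    rw [hf] at this
    split_ifs at this <;> omega
  have hπfix : ∀ v : Fin n, v ≠ z0 → v ≠ z1 → v ≠ z3 → v ≠ z4 → π.1 v = v := fun v a b c e => by
    simp [π, Equiv.swap_apply_of_ne_of_ne a b, Equiv.swap_apply_of_ne_of_ne c e]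
  have hπ0 : π.1 z0 = z1 := by
    simp [π, Equiv.swap_apply_of_ne_of_ne (ne (show z0.val ≠ z3.val by omega)) (ne (show z0.val ≠ z4.val by omega))]
  have hπ1 : π.1 z1 = z0 := by
    simp [π, Equiv.swap_apply_of_ne_of_ne (ne (show z1.val ≠ z3.val by omega)) (ne (show z1.val ≠ z4.val by omega))]
  have hdisj : Equiv.swap z0 z1 * Equiv.swap z3 z4 = Equiv.swap z3 z4 * Equiv.swap z0 z1 := by
    refine (Equiv.Perm.Disjoint.commute fun v => ?_).eq
    by_cases h : v = z0 ∨ v = z1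
    · rcases h with rfl | rfl <;>
        exact Or.inr (Equiv.swap_apply_of_ne_of_ne (ne (by omega)) (ne (by omega)))
    · rw [not_or] at h
      exact Or.inl (Equiv.swap_apply_of_ne_of_ne h.1 h.2)
  have hππ : π * π = 1 := Subtype.ext (by
    show Equiv.swap z0 z1 * Equiv.swap z3 z4 * (Equiv.swap z0 z1 * Equiv.swap z3 z4) = 1
    conv_lhs => arg 2; rw [hdisj]
    rw [mul_assoc, ← mul_assoc (Equiv.swap z3 z4), Equiv.swap_mul_self, one_mul, Equiv.swap_mul_self])
  refine ⟨π, u, by rw [← hz3, ← hz4], hπ0, hπ1, hπfix z2 (ne (by omega)) (ne (by omega)) (ne (by omega)) (ne (by omega)), hππ,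
    huT z0 (by omega), huT z1 (by omega), fun g g0 g1 => ?_⟩
  obtain ⟨H, hH⟩ : ∃ H, H = (Subgroup.closure ({u, π * u * π⁻¹} : Set (alternatingGroup (Fin n)))).map
      (alternatingGroup (Fin n)).subtype := ⟨_, rfl⟩
  obtain ⟨t, ht⟩ : ∃ t, t = Equiv.swap z3 z4 := ⟨_, rfl⟩
  have hu0 : u.1 z0 = z0 := huT z0 (by omega)
  have hu1 : u.1 z1 = z1 := huT z1 (by omega)
  have hswap : π.1 * u.1 * π.1⁻¹ = t * u.1 * t⁻¹ := by
    show Equiv.swap z0 z1 * Equiv.swap z3 z4 * u.1 * (Equiv.swap z0 z1 * Equiv.swap z3 z4)⁻¹ = _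
    have hc : Commute (Equiv.swap z0 z1) u.1 := by
      have e := mul_inv_eq_iff_eq_mul.1 (Equiv.swap_apply_apply u.1 z0 z1).symm
      rw [hu0, hu1] at e
      exact e.symm
    rw [hdisj, ← ht, mul_inv_rev, Equiv.swap_inv, mul_assoc t, hc.eq, ← mul_assoc t]
    rw [mul_assoc (t * u.1), ← mul_assoc (Equiv.swap z0 z1), Equiv.swap_mul_self, one_mul]
  have hu : u.1 ∈ H := hH ▸ ⟨u, Subgroup.subset_closure (Or.inl rfl), rfl⟩
  have hu' : t * u.1 * t⁻¹ ∈ H := hH ▸ ⟨π * u * π⁻¹, Subgroup.subset_closure (Or.inr rfl), hswap⟩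
  have hHle : H ≤ Subgroup.closure ({u.1, t * u.1 * t⁻¹} : Set (Equiv.Perm (Fin n))) := by
    rw [hH, MonoidHom.map_closure, Set.image_pair]
    exact le_of_eq (by rw [← hswap]; rfl)
  have htt : t * t = 1 := ht ▸ Equiv.swap_mul_self z3 z4
  let N : Subgroup (Equiv.Perm (Fin n)) := Subgroup.normalizer (H : Set (Equiv.Perm (Fin n)))
  have huN : u.1 ∈ N := Subgroup.le_normalizer hu
  have htN : t ∈ N := by
    have hone : ∀ x ∈ H, t * x * t⁻¹ ∈ H := by
      intro x hx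
      have hx' := hHle hx
      clear hx
      induction hx' using Subgroup.closure_induction with
      | mem y hy =>
        rcases hy with rfl | rfl
        · exact hu'
        · rw [show t * (t * u.1 * t⁻¹) * t⁻¹ = (t * t) * u.1 * (t * t)⁻¹ by group, htt]
          simpa using hu
      | one => simp
      | mul a b _ _ ha hb => rw [show t * (a * b) * t⁻¹ = t * a * t⁻¹ * (t * b * t⁻¹) by group]; exact mul_mem ha hb
      | inv a _ ha => rw [show t * a⁻¹ * t⁻¹ = (t * a * t⁻¹)⁻¹ by group]; exact inv_mem ha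
    refine Subgroup.mem_normalizer_iff.2 fun x => ⟨hone x, fun hx => ?_⟩
    have h := hone _ hx
    rwa [show t * (t * x * t⁻¹) * t⁻¹ = (t * t) * x * (t * t)⁻¹ by group, htt, one_mul, inv_one, mul_one] at h
  -- every transposition at `z3` normalises
  obtain ⟨S, hS⟩ : ∃ S : Set (Fin n), S = {v | v = z3 ∨ Equiv.swap z3 v ∈ N} := ⟨_, rfl⟩
  have hS3 : z3 ∈ S := hS ▸ Or.inl rfl
  have hS4 : z4 ∈ S := hS ▸ Or.inr (ht ▸ htN)
  have hu3 : u.1 z3 = z3 ∨ u.1 z3 = z4 := by
    by_cases h : ∃ i, f i = z3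
    · obtain ⟨i, hi⟩ := h
      refine Or.inr ?_
      have := congrArg Fin.val hi
      rw [hf, v3] at this
      show rot f z3 = z4
      rw [← hi, CfsgLib.Perm.AltBounded.rot_apply]
      apply Fin.ext
      have hi2 := i.2
      have h3 : i.val = 0 ∧ d = 0 := by split_ifs at this <;> omega
      rw [hf, Fin.val_add, Fin.val_one', Nat.add_mod_mod, Nat.mod_eq_of_lt (by omega), if_pos (by omega), v4]
      omega
    · simp only [not_exists] at h
      exact Or.inl (hufix _ h)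
  have hstep : ∀ v ∈ S, u.1 v ∈ S := by
    intro v hv
    rw [hS] at hv ⊢
    rcases hv with rfl | hv
    · rcases hu3 with h | h <;> rw [h]
      · exact Or.inl rfl
      · exact Or.inr (ht ▸ htN)
    · by_cases h : u.1 v = z3
      · exact Or.inl h
      refine Or.inr ?_
      have hm := mul_mem (mul_mem huN hv) (inv_mem huN)
      rw [← Equiv.swap_apply_apply] at hm
      rcases hu3 with e | e <;> rw [e] at hm
      · exact hm
      · by_cases h4 : u.1 v = z4
        · rw [h4, ← ht]; exact htN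
        have hm2 := mul_mem (mul_mem htN hm) (inv_mem htN)
        rwa [← Equiv.swap_apply_apply, ht, Equiv.swap_apply_right, Equiv.swap_apply_of_ne_of_ne h h4] at hm2
  have hall : ∀ i, f i ∈ S := by
    intro i
    induction i using Fin.induction with
    | zero =>
      have h : (f 0).val = 3 + d := by rw [hf, Fin.val_zero, if_pos (by omega), Nat.zero_add]
      rcases (show d = 0 ∨ d = 1 by omega) with rfl | rfl
      · rw [show f 0 = z3 from Fin.ext (by omega)]; exact hS3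
      · rw [show f 0 = z4 from Fin.ext (by omega)]; exact hS4
    | succ i ih =>
      have := hstep _ ih
      rwa [show u.1 (f i.castSucc) = f (i.castSucc + 1) from CfsgLib.Perm.AltBounded.rot_apply f _,
        Fin.coeSucc_eq_succ] at this
  have hT : ∀ v : Fin n, 2 ≤ v.val → v ∈ S := by
    intro v hv
    by_cases h3 : v = z3
    · exact h3 ▸ hS3
    have : v.val ≠ 3 := fun e => h3 (Fin.ext (e.trans v3.symm))
    by_cases h2 : v.val = 2
    · have h := hall ⟨l, Nat.lt_succ_self l⟩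
      rwa [show f ⟨l, Nat.lt_succ_self l⟩ = v from Fin.ext (by
        rw [hf]; simp only; rw [if_neg (by omega), h2])] at h
    · have := v.2
      have h := hall ⟨v.val - 3 - d, by omega⟩
      rwa [show f ⟨v.val - 3 - d, by omega⟩ = v from Fin.ext (by
        rw [hf]; simp only; rw [if_pos (by omega)]; omega)] at h
  have hswapN : ∀ x y : Fin n, 2 ≤ x.val → 2 ≤ y.val → x ≠ y → Equiv.swap x y ∈ N := by
    intro x y hx hy hxy
    have h' : ∀ w : Fin n, 2 ≤ w.val → w ≠ z3 → Equiv.swap z3 w ∈ N := fun w hw hne => by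
      have := hT w hw
      rw [hS] at this
      exact this.resolve_left hne
    by_cases hx3 : x = z3
    · subst hx3; exact h' y hy (Ne.symm hxy)
    by_cases hy3 : y = z3
    · subst hy3; rw [Equiv.swap_comm]; exact h' x hx hx3
    have hm := mul_mem (mul_mem (h' x hx hx3) (h' y hy hy3)) (inv_mem (h' x hx hx3))
    rwa [← Equiv.swap_apply_apply, Equiv.swap_apply_left, Equiv.swap_apply_of_ne_of_ne hy3 hxy.symm] at hm
  -- a three-cycle
  obtain ⟨w, hw⟩ : ∃ w, w = u.1 z4 := ⟨_, rfl⟩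
  have hw4 : w.val ≠ 3 ∧ w.val ≠ 4 ∧ 2 ≤ w.val := by
    have hi : (1 - d) + 1 < l + 1 := by omega
    have h4 : f ⟨1 - d, by omega⟩ = z4 := Fin.ext (by rw [hf]; simp only; rw [if_pos (by omega), v4]; omega)
    rw [hw, show u.1 z4 = f (⟨1 - d, by omega⟩ + 1) from
      (congrArg (fun v => u.1 v) h4).symm.trans (CfsgLib.Perm.AltBounded.rot_apply f _), hf, Fin.val_add, Fin.val_one', Nat.add_mod_mod, Nat.mod_eq_of_lt hi]
    split_ifs <;> omega
  have n3w : z3 ≠ w := ne (by omega)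
  have n4w : z4 ≠ w := ne (by omega)
  have hcy : u.1 * (t * u.1 * t⁻¹)⁻¹ ∈ H := mul_mem hu (inv_mem hu')
  rw [show u.1 * (t * u.1 * t⁻¹)⁻¹ = u.1 * t * u.1⁻¹ * t⁻¹ by group, ht, ← Equiv.swap_apply_apply, ← hw,
    Equiv.swap_inv] at hcy
  obtain ⟨a, b, c, hab, hac, hbc, ha, hb, hc, hcyc⟩ : ∃ a b c : Fin n, a ≠ b ∧ a ≠ c ∧ b ≠ c ∧
      2 ≤ a.val ∧ 2 ≤ b.val ∧ 2 ≤ c.val ∧ cyc a b c ∈ H := by
    rcases hu3 with e | e <;> rw [e] at hcy
    · refine ⟨w, z3, z4, n3w.symm, n4w.symm, h34, hw4.2.2, by omega, by omega, ?_⟩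
      rwa [cyc, Equiv.swap_comm w z3]
    · refine ⟨w, z4, z3, n4w.symm, n3w.symm, h34.symm, hw4.2.2, by omega, by omega, ?_⟩
      rw [cyc, Equiv.swap_comm w z4, Equiv.swap_comm z4 z3]
      exact hcy
  -- moving it around
  have hmove : ∀ x y z : Fin n, 2 ≤ x.val → 2 ≤ y.val → 2 ≤ z.val → x ≠ y → x ≠ z → y ≠ z → cyc x y z ∈ H := by
    intro x y z hx hy hz hxy hxz hyz
    have hpres : ∀ σ : Equiv.Perm (Fin n), ∀ p q r : Fin n, σ ∈ N → cyc p q r ∈ H →
        cyc (σ p) (σ q) (σ r) ∈ H := fun σ p q r hσ h => by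
      rw [← CfsgLib.Perm.AltBounded.cyc_conj]
      exact (Subgroup.mem_normalizer_iff.1 hσ _).1 h
    have hsw : ∀ p q : Fin n, 2 ≤ p.val → 2 ≤ q.val → Equiv.swap p q ∈ N := fun p q hp hq => by
      by_cases h : p = q
      · subst h; rw [Equiv.swap_self]; exact one_mem N
      · exact hswapN p q hp hq h
    have hval : ∀ p q v : Fin n, 2 ≤ p.val → 2 ≤ q.val → 2 ≤ v.val → 2 ≤ (Equiv.swap p q v).val :=
      fun p q v hp hq hv => by rw [Equiv.swap_apply_def]; split_ifs <;> assumption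
    have s1 := hpres _ _ _ _ (hsw a x ha hx) hcyc
    rw [Equiv.swap_apply_left] at s1
    have hb' := hval a x b ha hx hb
    have hc' := hval a x c ha hx hc
    have nb : x ≠ Equiv.swap a x b := fun e => hab ((Equiv.swap a x).injective ((Equiv.swap_apply_left a x).trans e))
    have nc : x ≠ Equiv.swap a x c := fun e => hac ((Equiv.swap a x).injective ((Equiv.swap_apply_left a x).trans e))
    have nbc : Equiv.swap a x b ≠ Equiv.swap a x c := (Equiv.swap a x).injective.ne hbc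
    generalize Equiv.swap a x b = b1 at s1 hb' nb nbc
    generalize Equiv.swap a x c = c1 at s1 hc' nc nbc
    have s2 := hpres _ _ _ _ (hsw b1 y hb' hy) s1
    rw [Equiv.swap_apply_left, Equiv.swap_apply_of_ne_of_ne nb hxy] at s2
    have hc2 := hval b1 y c1 hb' hy hc'
    have nc2 : x ≠ Equiv.swap b1 y c1 := fun e => nc
      ((Equiv.swap b1 y).injective ((Equiv.swap_apply_of_ne_of_ne nb hxy).trans e))
    have nyc : y ≠ Equiv.swap b1 y c1 := fun e => nbc
      ((Equiv.swap b1 y).injective ((Equiv.swap_apply_left b1 y).trans e))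
    generalize Equiv.swap b1 y c1 = c2 at s2 hc2 nc2 nyc
    have s3 := hpres _ _ _ _ (hsw c2 z hc2 hz) s2
    rwa [Equiv.swap_apply_left, Equiv.swap_apply_of_ne_of_ne nc2 hxz, Equiv.swap_apply_of_ne_of_ne nyc hyz] at s3
  have hle : altOn ((Finset.univ : Finset (Fin n)).filter fun v => 2 ≤ v.val) ≤ H := by
    refine CfsgLib.Perm.AltBounded.altOn_le_of_base (A := z3) (B := z4) (by simp [v3]) (by simp [v4]) h34
      fun i hi k3 k4 => hmove _ _ _ (by omega) (by omega) (by simpa using hi) h34 k3.symm k4.symm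
  have hg : g.1 ∈ H := hle ⟨Equiv.Perm.mem_alternatingGroup.1 g.2, fun v hv => by
    rcases (show v.val = 0 ∨ v.val = 1 by simp at hv; omega) with h | h
    · rw [show v = z0 from Fin.ext (h.trans v0.symm), g0]
    · rw [show v = z1 from Fin.ext (h.trans v1.symm), g1]⟩
  rw [hH] at hg
  obtain ⟨x, hx, e⟩ := hg
  rwa [← Subtype.ext e]

theorem exists_stab_pair (hn : 5 ≤ n) : ∃ π u : alternatingGroup (Fin n),
    π.1 (cast3 (by omega) 0) = cast3 (by omega) 1 ∧ π.1 (cast3 (by omega) 1) = cast3 (by omega) 0 ∧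
    π.1 (cast3 (by omega) 2) = cast3 (show 4 ≤ n by omega) 2 ∧ π * π = 1 ∧
    u.1 (cast3 (by omega) 0) = cast3 (by omega) 0 ∧ u.1 (cast3 (by omega) 1) = cast3 (show 4 ≤ n by omega) 1 ∧
    ∀ g : alternatingGroup (Fin n), g.1 (cast3 (by omega) 0) = cast3 (show 4 ≤ n by omega) 0 →
      g.1 (cast3 (by omega) 1) = cast3 (show 4 ≤ n by omega) 1 →
      g ∈ Subgroup.closure ({u, π * u * π⁻¹} : Set (alternatingGroup (Fin n))) := by
  obtain ⟨π, u, -, h⟩ := exists_stab_pair_explicit hn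
  exact ⟨π, u, h⟩

end CfsgLib.Known.SLBounded
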