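import Cfsg.Agent.Lib.Known.SLBounded.All
import Cfsg.Agent.Lib.Known.SLBounded.Stab

/-!
# Gluing with five relations
-/

set_option autoImplicit false

namespace CfsgLib.Known.SLBounded

open CfsgLib.Known.SL3Bounded
open scoped commutatorElement

variable {F : Type*} [Field F]

/-- gluing with abstract relations on the two pieces -/
theorem exists_glue [Finite F] {n : ℕ} (hn : 4 ≤ n) {α3 αA : Type} (R3 : Finset (FreeGroup α3))
    (e3 : PresentedGroup (↑R3 : Set (FreeGroup α3)) ≃* Matrix.SpecialLinearGroup (Fin 3) F)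
    (RA : Finset (FreeGroup αA)) (eA : PresentedGroup (↑RA : Set (FreeGroup αA)) ≃* alternatingGroup (Fin n))
    (L : List (FreeGroup (Matrix.SpecialLinearGroup (Fin 3) F ⊕ alternatingGroup (Fin n))))
    (hval : ∀ r ∈ L, FreeGroup.lift (Sum.elim (inc F hn) (perm F n)) r = 1)
    (hsuf : ∀ (G : Type) [Group G] (ψ : Matrix.SpecialLinearGroup (Fin 3) F →* G)
      (α : alternatingGroup (Fin n) →* G), (∀ r ∈ L, FreeGroup.lift (Sum.elim ψ α) r = 1) →
      ∃ D : Setup F n G, D.ψ = ψ ∧ D.α = α) :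
    ∃ rels : Finset (FreeGroup (α3 ⊕ αA)), rels.card ≤ R3.card + RA.card + L.length ∧
      Nonempty (PresentedGroup (↑rels : Set (FreeGroup (α3 ⊕ αA))) ≃* Matrix.SpecialLinearGroup (Fin n) F) := by
  classical
  choose v hv using fun M : Matrix.SpecialLinearGroup (Fin 3) F =>
    (e3.surjective.comp (PresentedGroup.mk_surjective (↑R3 : Set (FreeGroup α3)))) M
  choose w hw using fun u : alternatingGroup (Fin n) =>
    (eA.surjective.comp (PresentedGroup.mk_surjective (↑RA : Set (FreeGroup αA)))) u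
  let V : Matrix.SpecialLinearGroup (Fin 3) F ⊕ alternatingGroup (Fin n) → FreeGroup (α3 ⊕ αA) :=
    Sum.elim (fun M => FreeGroup.map Sum.inl (v M)) (fun u => FreeGroup.map Sum.inr (w u))
  let R : Finset (FreeGroup (α3 ⊕ αA)) :=
    (R3.image (FreeGroup.map Sum.inl) ∪ RA.image (FreeGroup.map Sum.inr)) ∪ (L.map (FreeGroup.lift V)).toFinset
  let g : α3 ⊕ αA → Matrix.SpecialLinearGroup (Fin n) F :=
    Sum.elim (fun i => inc F hn (e3 (PresentedGroup.of i))) (fun j => perm F n (eA (PresentedGroup.of j)))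
  have hgl : (FreeGroup.lift g).comp (FreeGroup.map Sum.inl) =
      ((inc F hn).comp e3.toMonoidHom).comp (PresentedGroup.mk _) :=
    FreeGroup.ext_hom _ _ fun i => by simp [g, PresentedGroup.of]
  have hgr : (FreeGroup.lift g).comp (FreeGroup.map Sum.inr) =
      ((perm F n).comp eA.toMonoidHom).comp (PresentedGroup.mk _) :=
    FreeGroup.ext_hom _ _ fun i => by simp [g, PresentedGroup.of]
  have hgV : (FreeGroup.lift g).comp (FreeGroup.lift V) = FreeGroup.lift (Sum.elim (inc F hn) (perm F n)) :=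
    FreeGroup.ext_hom _ _ fun x => by
      rw [MonoidHom.comp_apply, FreeGroup.lift_apply_of, FreeGroup.lift_apply_of]
      rcases x with M | u
      · exact (DFunLike.congr_fun hgl (v M)).trans (congrArg (inc F hn) (hv M))
      · exact (DFunLike.congr_fun hgr (w u)).trans (congrArg (perm F n) (hw u))
  have hR : ∀ r ∈ (↑R : Set (FreeGroup (α3 ⊕ αA))), FreeGroup.lift g r = 1 := by
    intro r hr
    rcases Finset.mem_union.1 (Finset.mem_coe.1 hr) with hr | hr
    · rcases Finset.mem_union.1 hr with hr | hr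
      · obtain ⟨x, hx, rfl⟩ := Finset.mem_image.1 hr
        rw [← MonoidHom.comp_apply, hgl, MonoidHom.comp_apply, PresentedGroup.one_of_mem (Finset.mem_coe.2 hx),
          map_one]
      · obtain ⟨x, hx, rfl⟩ := Finset.mem_image.1 hr
        rw [← MonoidHom.comp_apply, hgr, MonoidHom.comp_apply, PresentedGroup.one_of_mem (Finset.mem_coe.2 hx),
          map_one]
    · obtain ⟨x, hx, rfl⟩ := List.mem_map.1 (List.mem_toFinset.1 hr)
      rw [← MonoidHom.comp_apply, hgV]
      exact hval x hx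
  let θ := PresentedGroup.toGroup hR
  let mk := PresentedGroup.mk (↑R : Set (FreeGroup (α3 ⊕ αA)))
  have hl : ∀ x ∈ (↑R3 : Set (FreeGroup α3)), FreeGroup.lift (fun i => mk (FreeGroup.of (Sum.inl i))) x = 1 := by
    intro x hx
    rw [show FreeGroup.lift (fun i => mk (FreeGroup.of (Sum.inl i))) = mk.comp (FreeGroup.map Sum.inl) from
      FreeGroup.ext_hom _ _ fun i => by simp, MonoidHom.comp_apply]
    exact PresentedGroup.one_of_mem (Finset.mem_coe.2 (Finset.mem_union_left _ (Finset.mem_union_left _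
      (Finset.mem_image_of_mem _ (Finset.mem_coe.1 hx)))))
  have hr : ∀ x ∈ (↑RA : Set (FreeGroup αA)), FreeGroup.lift (fun i => mk (FreeGroup.of (Sum.inr i))) x = 1 := by
    intro x hx
    rw [show FreeGroup.lift (fun i => mk (FreeGroup.of (Sum.inr i))) = mk.comp (FreeGroup.map Sum.inr) from
      FreeGroup.ext_hom _ _ fun i => by simp, MonoidHom.comp_apply]
    exact PresentedGroup.one_of_mem (Finset.mem_coe.2 (Finset.mem_union_left _ (Finset.mem_union_right _
      (Finset.mem_image_of_mem _ (Finset.mem_coe.1 hx)))))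
  let ψ := (PresentedGroup.toGroup hl).comp e3.symm.toMonoidHom
  let α := (PresentedGroup.toGroup hr).comp eA.symm.toMonoidHom
  have hψV : ∀ M, mk (FreeGroup.map Sum.inl (v M)) = ψ M := fun M => by
    conv_rhs => rw [← hv M]
    show _ = PresentedGroup.toGroup hl (e3.symm (e3 (PresentedGroup.mk _ (v M))))
    rw [e3.symm_apply_apply]
    exact DFunLike.congr_fun (FreeGroup.ext_hom (mk.comp (FreeGroup.map Sum.inl))
      ((PresentedGroup.toGroup hl).comp (PresentedGroup.mk _)) fun i => by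
        show mk (FreeGroup.map Sum.inl (FreeGroup.of i)) = PresentedGroup.toGroup hl (PresentedGroup.of i)
        rw [FreeGroup.map.of, PresentedGroup.toGroup.of]) (v M)
  have hαW : ∀ u, mk (FreeGroup.map Sum.inr (w u)) = α u := fun u => by
    conv_rhs => rw [← hw u]
    show _ = PresentedGroup.toGroup hr (eA.symm (eA (PresentedGroup.mk _ (w u))))
    rw [eA.symm_apply_apply]
    exact DFunLike.congr_fun (FreeGroup.ext_hom (mk.comp (FreeGroup.map Sum.inr))
      ((PresentedGroup.toGroup hr).comp (PresentedGroup.mk _)) fun i => by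
        show mk (FreeGroup.map Sum.inr (FreeGroup.of i)) = PresentedGroup.toGroup hr (PresentedGroup.of i)
        rw [FreeGroup.map.of, PresentedGroup.toGroup.of]) (w u)
  have hmkV : mk.comp (FreeGroup.lift V) = FreeGroup.lift (Sum.elim ψ α) := FreeGroup.ext_hom _ _ fun x => by
    rw [MonoidHom.comp_apply, FreeGroup.lift_apply_of, FreeGroup.lift_apply_of]
    rcases x with M | u
    · exact hψV M
    · exact hαW u
  obtain ⟨D, hDψ, hDα⟩ := hsuf _ ψ α fun r hr => by
    rw [← hmkV]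
    exact PresentedGroup.one_of_mem (Finset.mem_coe.2 (Finset.mem_union_right _
      (List.mem_toFinset.2 (List.mem_map_of_mem hr))))
  have hθψ : ∀ M, θ (ψ M) = inc F hn M := fun M => by
    rw [← hψV]; exact (DFunLike.congr_fun hgl (v M)).trans (congrArg (inc F hn) (hv M))
  have hθα : ∀ u, θ (α u) = perm F n u := fun u => by
    rw [← hαW]; exact (DFunLike.congr_fun hgr (w u)).trans (congrArg (perm F n) (hw u))
  have hgen : D.ψ.range ⊔ D.α.range = ⊤ := by
    rw [hDψ, hDα, eq_top_iff, ← PresentedGroup.closure_range_of (↑R : Set (FreeGroup (α3 ⊕ αA))),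
      Subgroup.closure_le]
    rintro _ ⟨i | j, rfl⟩
    · refine Subgroup.mem_sup_left ⟨e3 (PresentedGroup.of i), ?_⟩
      show PresentedGroup.toGroup hl (e3.symm (e3 _)) = _
      rw [e3.symm_apply_apply, PresentedGroup.toGroup.of]
      rfl
    · refine Subgroup.mem_sup_right ⟨eA (PresentedGroup.of j), ?_⟩
      show PresentedGroup.toGroup hr (eA.symm (eA _)) = _
      rw [eA.symm_apply_apply, PresentedGroup.toGroup.of]
      rfl
  refine ⟨R, ?_, ⟨MulEquiv.ofBijective θ (D.bijective hgen θ (fun t => ?_) fun u i j hij t => ?_)⟩⟩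
  · refine (Finset.card_union_le _ _).trans (add_le_add ((Finset.card_union_le _ _).trans
      (add_le_add Finset.card_image_le Finset.card_image_le)) ((List.toFinset_card_le _).trans (by simp)))
  · rw [hDψ, hθψ, inc_x hn (show (0 : Fin 3) ≠ 1 by decide)]
  · rw [hDα, hθα]
    exact perm_conj u hij t

section flip

variable {n : ℕ}

/-- the exchange of the first two of three coordinates -/
def tau (a : Fin 3) : Fin 3 := 1 - a

theorem tau_succ : ∀ a : Fin 3, tau (a + 1) + 1 = tau a := by decide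
theorem tau_tau : ∀ a : Fin 3, tau (tau a) = a := by decide
theorem tau_ne {a b : Fin 3} (h : a ≠ b) : tau a ≠ tau b := fun e => h (by rw [← tau_tau a, e, tau_tau])

/-- one relation makes an involution exchange all the root elements -/
theorem flip_all [Finite F] {G : Type*} [Group G] {ω : Fˣ} (hcyc : ∀ x : Fˣ, x ∈ Subgroup.zpowers ω) (hn : 4 ≤ n)
    (ψ : Matrix.SpecialLinearGroup (Fin 3) F →* G) (α : alternatingGroup (Fin n) →* G)
    (hc : ψ cMat = α (c012 hn)) {π : alternatingGroup (Fin n)} (h0 : π.1 (cast3 hn 0) = cast3 hn 1)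
    (h1 : π.1 (cast3 hn 1) = cast3 hn 0) (h2 : π.1 (cast3 hn 2) = cast3 hn 2) (hπ : π * π = 1)
    (hrel : α π * ψ ((S3 F).x 0 1 (ω : F)) * (α π)⁻¹ = ψ ((S3 F).x 1 0 (ω : F)))
    {a b : Fin 3} (hab : a ≠ b) (t : F) :
    α π * ψ ((S3 F).x a b t) * (α π)⁻¹ = ψ ((S3 F).x (tau a) (tau b) t) := by
  obtain ⟨P, hP⟩ : ∃ P : Fin 3 → Fin 3 → F → Prop, P = fun a b t =>
      α π * ψ ((S3 F).x a b t) * (α π)⁻¹ = ψ ((S3 F).x (tau a) (tau b) t) := ⟨_, rfl⟩
  have hπc : α π * ψ cMat * (α π)⁻¹ = (ψ cMat)⁻¹ := by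
    rw [hc, ← map_inv, ← map_inv, ← map_mul, ← map_mul]
    congr 1
    refine Subtype.ext ?_
    show π.1 * (c012 hn).1 * π.1⁻¹ = (c012 hn).1⁻¹
    simp only [c012]
    rw [CfsgLib.Perm.AltBounded.cyc_conj, h0, h1, h2,
      CfsgLib.Perm.AltBounded.cyc_inv (cast3_ne hn (by decide)) (cast3_ne hn (by decide))
      (cast3_ne hn (by decide))]
  have hshift : ∀ a b, a ≠ b → ∀ t, P a b t → P (a + 1) (b + 1) t := by
    intro a b hab t h
    have hne : tau (a + 1) ≠ tau (b + 1) := tau_ne fun e => hab (add_right_cancel e)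
    rw [hP] at h ⊢
    simp only at h ⊢
    have e := c_shift hne t
    rw [tau_succ, tau_succ, mul_inv_eq_iff_eq_mul] at e
    calc α π * ψ ((S3 F).x (a + 1) (b + 1) t) * (α π)⁻¹
        = (α π * ψ cMat * (α π)⁻¹) * (α π * ψ ((S3 F).x a b t) * (α π)⁻¹) * (α π * ψ cMat * (α π)⁻¹)⁻¹ := by
          rw [← c_shift hab, map_mul, map_mul, map_inv]; group
      _ = (ψ cMat)⁻¹ * (ψ ((S3 F).x (tau a) (tau b) t) * ψ cMat) := by rw [hπc, h]; group
      _ = _ := by rw [← map_mul ψ, ← e, map_mul]; group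
  have hback : ∀ a b t, P a b t → P (tau a) (tau b) t := by
    intro a b t h
    rw [hP] at h ⊢
    simp only at h ⊢
    rw [tau_tau, tau_tau, ← h]
    have e : α π * α π = 1 := by rw [← map_mul, hπ, map_one]
    rw [show α π * (α π * ψ ((S3 F).x a b t) * (α π)⁻¹) * (α π)⁻¹ =
      (α π * α π) * ψ ((S3 F).x a b t) * (α π * α π)⁻¹ by group, e]
    simp
  have hfrom : ∀ a b, a ≠ b → ∀ t, P 0 1 t → P a b t := by
    intro a b hab t h
    have h10 := hback 0 1 t h
    rw [show tau 0 = 1 from rfl, show tau 1 = 0 from rfl] at h10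
    have h12 := hshift 0 1 (by decide) t h
    have h20 := hshift _ _ (by decide) t h12
    have h21 := hshift 1 0 (by decide) t h10
    have h02 := hshift _ _ (by decide) t h21
    fin_cases a <;> fin_cases b <;> first
      | exact absurd rfl hab
      | exact h
      | exact h10
      | exact h12
      | exact h20
      | exact h21
      | exact h02
  have hmul : ∀ t u, P 0 1 t → P 0 1 u → P 0 1 (t * u) := by
    intro t u ht hu
    have ht' := hfrom 0 2 (by decide) t ht
    have hu' := hfrom 2 1 (by decide) u hu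
    rw [hP] at ht' hu' ⊢
    simp only at ht' hu' ⊢
    rw [← (S3 F).comm 0 2 1 (by decide) (by decide) (by decide),
      ← (S3 F).comm (tau 0) (tau 2) (tau 1) (tau_ne (by decide)) (tau_ne (by decide)) (tau_ne (by decide)),
      map_commutatorElement, map_commutatorElement, ← ht', ← hu']
    simp only [commutatorElement_def]
    group
  have hω : P 0 1 (ω : F) := by rw [hP]; exact hrel
  have hpow : ∀ k : ℕ, P 0 1 ((ω : F) ^ (k + 1)) := fun k => by
    induction k with
    | zero => simpa using hω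
    | succ k ih => rw [pow_succ]; exact hmul _ _ ih hω
  have hall : ∀ t : F, P 0 1 t := by
    intro t
    rcases eq_or_ne t 0 with rfl | ht
    · rw [hP]
      simp only [(S3 F).x_zero (show (0 : Fin 3) ≠ 1 by decide),
        (S3 F).x_zero (tau_ne (show (0 : Fin 3) ≠ 1 by decide)), map_one, mul_one, mul_inv_cancel]
    · obtain ⟨k, hk⟩ : ∃ k : ℕ, ω ^ k = Units.mk0 t ht * ω⁻¹ := mem_powers_iff_mem_zpowers.2 (hcyc _)
      have e : (ω : F) ^ (k + 1) = t := by
        rw [← Units.val_pow_eq_pow_val, pow_succ, hk, inv_mul_cancel_right, Units.val_mk0]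
      exact e ▸ hpow k
  have := hfrom a b hab t (hall t)
  rw [hP] at this
  exact this

end flip

section block

/-- the block of the first two of three coordinates -/
def blk (F : Type*) [Field F] : Matrix.SpecialLinearGroup (Fin 2) F →* Matrix.SpecialLinearGroup (Fin 3) F :=
  CfsgLib.Known.ClassicalSections.blockSL (finSumFinEquiv : Fin 2 ⊕ Fin 1 ≃ Fin 3)

theorem blk_tr {i j : Fin 2} (hij : i ≠ j) (t : F) :
    blk F (Matrix.SpecialLinearGroup.transvection hij t) = (S3 F).x i.castSucc j.castSucc t := by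
  rw [S3_x (fun e => hij (Fin.castSucc_injective _ e))]
  refine sl3_ext ?_
  rw [coe_tm]
  show Matrix.reindex finSumFinEquiv finSumFinEquiv
    (Matrix.fromBlocks (Matrix.transvection i j t) 0 0 (1 : Matrix (Fin 1) (Fin 1) F)) = _
  ext x y
  obtain ⟨x, rfl⟩ := (finSumFinEquiv : Fin 2 ⊕ Fin 1 ≃ Fin 3).surjective x
  obtain ⟨y, rfl⟩ := (finSumFinEquiv : Fin 2 ⊕ Fin 1 ≃ Fin 3).surjective y
  simp only [Matrix.reindex_apply, Matrix.submatrix_apply, Equiv.symm_apply_apply]
  have el : ∀ k : Fin 2, ((finSumFinEquiv : Fin 2 ⊕ Fin 1 ≃ Fin 3) (Sum.inl k)).val = k.val := fun _ => rfl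
  have er : ∀ k : Fin 1, ((finSumFinEquiv : Fin 2 ⊕ Fin 1 ≃ Fin 3) (Sum.inr k)).val = 2 + k.val := fun _ => rfl
  rcases x with x | x <;> rcases y with y | y <;> fin_cases i <;> fin_cases j <;>
    first
      | exact absurd rfl hij
      | (fin_cases x <;> fin_cases y <;>
          simp [Matrix.transvection, Matrix.single_apply, Matrix.one_apply, Matrix.add_apply, Fin.ext_iff,
            el, er])

theorem commute_blk [Finite F] {n : ℕ} (hn : 4 ≤ n) {u : alternatingGroup (Fin n)}
    (h0 : u.1 (cast3 hn 0) = cast3 hn 0) (h1 : u.1 (cast3 hn 1) = cast3 hn 1)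
    (M : Matrix.SpecialLinearGroup (Fin 2) F) : Commute (perm F n u) (inc F hn (blk F M)) := by
  have h : (Subgroup.centralizer {perm F n u}).comap ((inc F hn).comp (blk F)) = ⊤ := by
    refine CfsgLib.Classical.closure_transvection_eq_top _ fun i j hij t => ?_
    rw [Subgroup.mem_comap, MonoidHom.comp_apply, blk_tr, Subgroup.mem_centralizer_singleton_iff]
    have hne : i.castSucc ≠ j.castSucc := fun e => hij (Fin.castSucc_injective _ e)
    have hfix : ∀ k : Fin 2, u.1 (cast3 hn k.castSucc) = cast3 hn k.castSucc := fun k => by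
      fin_cases k
      exacts [h0, h1]
    have e := (perm_inc_fix (F := F) hn u hne hne (hfix i) (hfix j) t).2
    exact (mul_inv_eq_iff_eq_mul.1 e).symm
  have hM : M ∈ (Subgroup.centralizer {perm F n u}).comap ((inc F hn).comp (blk F)) := h ▸ Subgroup.mem_top M
  exact (Subgroup.mem_centralizer_singleton_iff.1 (Subgroup.mem_comap.1 hM)).symm

theorem commute_of_pair [Finite F] {G : Type*} [Group G] (ψ : Matrix.SpecialLinearGroup (Fin 3) F →* G) {g : G}
    {a b : Matrix.SpecialLinearGroup (Fin 2) F}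
    (hab : Subgroup.closure ({a, b} : Set (Matrix.SpecialLinearGroup (Fin 2) F)) = ⊤)
    (ha : Commute g (ψ (blk F a))) (hb : Commute g (ψ (blk F b))) (t : F) :
    Commute g (ψ ((S3 F).x 1 0 t)) := by
  have h : (Subgroup.centralizer {g}).comap (ψ.comp (blk F)) = ⊤ := by
    rw [eq_top_iff, ← hab, Subgroup.closure_le]
    rintro x (rfl | rfl) <;>
      rw [SetLike.mem_coe, Subgroup.mem_comap, Subgroup.mem_centralizer_singleton_iff]
    exacts [ha.eq.symm, hb.eq.symm]
  have hM : Matrix.SpecialLinearGroup.transvection (show (1 : Fin 2) ≠ 0 by decide) t ∈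
      (Subgroup.centralizer {g}).comap (ψ.comp (blk F)) := h ▸ Subgroup.mem_top _
  have := Subgroup.mem_centralizer_singleton_iff.1 (Subgroup.mem_comap.1 hM)
  rw [MonoidHom.comp_apply, blk_tr] at this
  exact this.symm

end block

theorem disj_valid {n : ℕ} (hn : 4 ≤ n) {σ : alternatingGroup (Fin n)} (s0 : σ.1 (cast3 hn 0) = cast3 hn 2)
    (s1 : σ.1 (cast3 hn 1) = four hn) :
    Commute (inc F hn ((S3 F).x 0 1 1)) (perm F n σ * inc F hn ((S3 F).x 0 1 1) * (perm F n σ)⁻¹) := by
  rw [inc_x hn (show (0 : Fin 3) ≠ 1 by decide), perm_conj]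
  refine SLn.tr_triv (cast3_ne hn (by decide)) _ ?_ ?_ (1 : F) 1
  · rw [s0]; exact cast3_ne hn (by decide)
  · rw [s1]; exact cast3_ne_four hn 0

/-- five glue relations in degree at least five -/
theorem exists_pres_five [Finite F] {n : ℕ} (hn : 5 ≤ n) {α3 αA : Type} (R3 : Finset (FreeGroup α3))
    (e3 : PresentedGroup (↑R3 : Set (FreeGroup α3)) ≃* Matrix.SpecialLinearGroup (Fin 3) F)
    (RA : Finset (FreeGroup αA)) (eA : PresentedGroup (↑RA : Set (FreeGroup αA)) ≃* alternatingGroup (Fin n)) :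
    ∃ rels : Finset (FreeGroup (α3 ⊕ αA)), rels.card ≤ R3.card + RA.card + 5 ∧
      Nonempty (PresentedGroup (↑rels : Set (FreeGroup (α3 ⊕ αA))) ≃* Matrix.SpecialLinearGroup (Fin n) F) := by
  have h4 : 4 ≤ n := by omega
  obtain ⟨ω, hcyc⟩ := IsCyclic.exists_generator (α := Fˣ)
  obtain ⟨π, u, p0, p1, p2, pp, u0, u1, hgen⟩ := exists_stab_pair hn
  obtain ⟨a, b, hab⟩ := exists_pair (F := F) 1 le_rfl
  obtain ⟨σ, s0, s1⟩ := exists_even_pair h4 (cast3_ne_four h4 2)
  let V := fun M : Matrix.SpecialLinearGroup (Fin 3) F =>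
    (FreeGroup.of (Sum.inl M) : FreeGroup (Matrix.SpecialLinearGroup (Fin 3) F ⊕ alternatingGroup (Fin n)))
  let W := fun u : alternatingGroup (Fin n) =>
    (FreeGroup.of (Sum.inr u) : FreeGroup (Matrix.SpecialLinearGroup (Fin 3) F ⊕ alternatingGroup (Fin n)))
  refine exists_glue h4 R3 e3 RA eA
    [V cMat * (W (c012 h4))⁻¹,
     W π * V ((S3 F).x 0 1 (ω : F)) * (W π)⁻¹ * (V ((S3 F).x 1 0 (ω : F)))⁻¹,
     W u * V (blk F a) * (W u)⁻¹ * (V (blk F a))⁻¹, W u * V (blk F b) * (W u)⁻¹ * (V (blk F b))⁻¹,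
     V ((S3 F).x 0 1 1) * (W σ * V ((S3 F).x 0 1 1) * (W σ)⁻¹) * (V ((S3 F).x 0 1 1))⁻¹ *
       (W σ * V ((S3 F).x 0 1 1) * (W σ)⁻¹)⁻¹] (fun r hr => ?_) (fun G _ ψ α h => ?_)
  · simp only [List.mem_cons, List.not_mem_nil, or_false] at hr
    rcases hr with rfl | rfl | rfl | rfl | rfl <;>
      simp only [V, W, map_mul, map_inv, FreeGroup.lift_apply_of, Sum.elim_inl, Sum.elim_inr, mul_inv_eq_one]
    · exact inc_c h4
    · exact (perm_inc_fix h4 π (by decide) (by decide) p0 p1 (ω : F)).2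
    · exact mul_inv_eq_iff_eq_mul.2 (commute_blk h4 u0 u1 a).eq
    · exact mul_inv_eq_iff_eq_mul.2 (commute_blk h4 u0 u1 b).eq
    · exact mul_inv_eq_iff_eq_mul.2 (disj_valid h4 s0 s1).eq
  · simp only [List.mem_cons, List.not_mem_nil, or_false, forall_eq_or_imp, forall_eq, V, W, map_mul, map_inv,
      FreeGroup.lift_apply_of, Sum.elim_inl, Sum.elim_inr, mul_inv_eq_one] at h
    obtain ⟨q1, q2, q3, q4, q5⟩ := h
    have hflip := fun {a b : Fin 3} (hne : a ≠ b) t => flip_all hcyc h4 ψ α q1 p0 p1 p2 pp q2 hne t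
    have hu10 := commute_of_pair ψ hab (mul_inv_eq_iff_eq_mul.1 q3) (mul_inv_eq_iff_eq_mul.1 q4)
    have hu01 : ∀ t, Commute (α u) (ψ ((S3 F).x 0 1 t)) := fun t => by
      have h : (Subgroup.centralizer {α u}).comap (ψ.comp (blk F)) = ⊤ := by
        rw [eq_top_iff, ← hab, Subgroup.closure_le]
        rintro x (rfl | rfl) <;>
          rw [SetLike.mem_coe, Subgroup.mem_comap, Subgroup.mem_centralizer_singleton_iff]
        exacts [(mul_inv_eq_iff_eq_mul.1 q3).symm, (mul_inv_eq_iff_eq_mul.1 q4).symm]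
      have hM : Matrix.SpecialLinearGroup.transvection (show (0 : Fin 2) ≠ 1 by decide) t ∈
          (Subgroup.centralizer {α u}).comap (ψ.comp (blk F)) := h ▸ Subgroup.mem_top _
      have := Subgroup.mem_centralizer_singleton_iff.1 (Subgroup.mem_comap.1 hM)
      rw [MonoidHom.comp_apply, blk_tr] at this
      exact this.symm
    have hu'01 : ∀ t, Commute (α (π * u * π⁻¹)) (ψ ((S3 F).x 0 1 t)) := fun t => by
      have := (hu10 t).map (MulAut.conj (α π)).toMonoidHom
      simp only [MulEquiv.coe_toMonoidHom, MulAut.conj_apply] at this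
      rw [hflip (show (1 : Fin 3) ≠ 0 by decide), show tau 1 = 0 from rfl, show tau 0 = 1 from rfl,
        ← map_inv, ← map_mul, ← map_mul] at this
      exact this
    refine ⟨{ hn := h4, ψ := ψ, α := α, hc := q1, stab := ?_,
              flip := ⟨π, p0, p1, fun t => hflip (show (0 : Fin 3) ≠ 1 by decide) t⟩,
              disj := ⟨σ, s0, s1, mul_inv_eq_iff_eq_mul.1 q5⟩ }, rfl, rfl⟩
    intro g g0 g1 t
    have hg := hgen g g0 g1
    clear g0 g1
    induction hg using Subgroup.closure_induction with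
    | mem x hx => rcases hx with rfl | rfl; exacts [hu01 t, hu'01 t]
    | one => rw [map_one]; exact Commute.one_left _
    | mul x y _ _ hx hy => rw [map_mul]; exact hx.mul_left hy
    | inv x _ hx => rw [map_inv]; exact hx.inv_left

theorem fixed_four : ∀ u : alternatingGroup (Fin 4), u.1 (cast3 (le_refl 4) 0) = cast3 (le_refl 4) 0 →
    u.1 (cast3 (le_refl 4) 1) = cast3 (le_refl 4) 1 → u = 1 := by
  decide

/-- four glue relations in degree four -/
theorem exists_pres_four [Finite F] {α3 αA : Type} (R3 : Finset (FreeGroup α3))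
    (e3 : PresentedGroup (↑R3 : Set (FreeGroup α3)) ≃* Matrix.SpecialLinearGroup (Fin 3) F)
    (RA : Finset (FreeGroup αA)) (eA : PresentedGroup (↑RA : Set (FreeGroup αA)) ≃* alternatingGroup (Fin 4)) :
    ∃ rels : Finset (FreeGroup (α3 ⊕ αA)), rels.card ≤ R3.card + RA.card + 4 ∧
      Nonempty (PresentedGroup (↑rels : Set (FreeGroup (α3 ⊕ αA))) ≃* Matrix.SpecialLinearGroup (Fin 4) F) := by
  have h4 : 4 ≤ 4 := le_rfl
  have h01 : (0 : Fin 3) ≠ 1 := by decide
  obtain ⟨ω, hcyc⟩ := IsCyclic.exists_generator (α := Fˣ)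
  obtain ⟨π, p0, p1⟩ := exists_even_pair h4 (cast3_ne h4 h01.symm)
  obtain ⟨σ, s0, s1⟩ := exists_even_pair h4 (cast3_ne_four h4 2)
  let V := fun M : Matrix.SpecialLinearGroup (Fin 3) F =>
    (FreeGroup.of (Sum.inl M) : FreeGroup (Matrix.SpecialLinearGroup (Fin 3) F ⊕ alternatingGroup (Fin 4)))
  let W := fun u : alternatingGroup (Fin 4) =>
    (FreeGroup.of (Sum.inr u) : FreeGroup (Matrix.SpecialLinearGroup (Fin 3) F ⊕ alternatingGroup (Fin 4)))
  refine exists_glue h4 R3 e3 RA eA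
    [V cMat * (W (c012 h4))⁻¹,
     W π * V ((S3 F).x 0 1 1) * (W π)⁻¹ * (V ((S3 F).x 1 0 1))⁻¹,
     W π * V ((S3 F).h 0 1 (ω : F)) * (W π)⁻¹ * (V ((S3 F).h 1 0 (ω : F)))⁻¹,
     V ((S3 F).x 0 1 1) * (W σ * V ((S3 F).x 0 1 1) * (W σ)⁻¹) * (V ((S3 F).x 0 1 1))⁻¹ *
       (W σ * V ((S3 F).x 0 1 1) * (W σ)⁻¹)⁻¹] (fun r hr => ?_) (fun G _ ψ α h => ?_)
  · simp only [List.mem_cons, List.not_mem_nil, or_false] at hr
    rcases hr with rfl | rfl | rfl | rfl <;>
      simp only [V, W, map_mul, map_inv, FreeGroup.lift_apply_of, Sum.elim_inl, Sum.elim_inr, mul_inv_eq_one]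
    · exact inc_c h4
    · exact (perm_inc_fix h4 π h01 h01.symm p0 p1 1).2
    · exact (perm_inc_fix h4 π h01 h01.symm p0 p1 (ω : F)).1
    · exact mul_inv_eq_iff_eq_mul.2 (disj_valid h4 s0 s1).eq
  · simp only [List.mem_cons, List.not_mem_nil, or_false, forall_eq_or_imp, forall_eq, V, W, map_mul, map_inv,
      FreeGroup.lift_apply_of, Sum.elim_inl, Sum.elim_inr, mul_inv_eq_one] at h
    obtain ⟨q1, q2, q3, q4⟩ := h
    refine ⟨{ hn := h4, ψ := ψ, α := α, hc := q1, stab := ?_,
              flip := ⟨π, p0, p1, flip_root hcyc ψ q2 q3⟩,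
              disj := ⟨σ, s0, s1, mul_inv_eq_iff_eq_mul.1 q4⟩ }, rfl, rfl⟩
    intro u u0 u1 t
    have hu : u = 1 := by
      exact fixed_four u u0 u1
    rw [hu, map_one]
    exact Commute.one_left _

end CfsgLib.Known.SLBounded
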